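import Mathlib
import Groth.Agent.Lib.Helper8.Sk1
import Groth.Agent.Lib.Helper4.StalkClosedPt1
import Groth.Agent.Lib.Helper6.GrDepth.GPe
import Groth.Agent.Lib.Helper6.GrDim.GDb

set_option autoImplicit false
set_option linter.unusedSectionVars false
set_option linter.unusedVariables false
set_option linter.unusedSimpArgs false
set_option linter.style.haveILetI false
set_option maxHeartbeats 400000

/-!
# Cohen–Macaulayness: quotient by a regular element, and reduction to homogeneous primes
-/

universe u

namespace Groth.Agent.Lib.Helper6.FiltBl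

open LocCoh IsLocalRing RingTheory.Sequence Groth.Agent.Helper8 Groth.Agent.Helper8.Depth
  Groth.Agent.Lib.Helper6.GrHt

section Local

theorem withBot_add_one_cancel {a : WithBot ℕ∞} {d : ℕ∞}
    (h : a + 1 = ((d + 1 : ℕ∞) : WithBot ℕ∞)) : a = (d : WithBot ℕ∞) := by
  induction a with
  | bot =>
    rw [WithBot.bot_add] at h
    exact absurd h WithBot.bot_ne_coe
  | coe y =>
    have h1 : y + 1 = d + 1 := by exact_mod_cast h
    have h2 : y = d := ENat.add_left_injective_of_ne_top ENat.one_ne_top h1
    rw [h2]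

theorem cm_iff_dim_eq_depth (R : Type u) [CommRing R] [IsNoetherianRing R] [IsLocalRing R] :
    IsCohenMacaulayLocalRing R ↔ ringKrullDim R = ((depth R R : ℕ∞) : WithBot ℕ∞) := by
  constructor
  · intro h
    rw [← Module.supportDim_self_eq_ringKrullDim]
    exact h.supportDim_eq_depth
  · intro h
    refine ⟨?_⟩
    rw [Module.supportDim_self_eq_ringKrullDim]
    exact h

/-- a Noetherian local ring is Cohen–Macaulay iff its quotient by a regular element of the
maximal ideal is -/
theorem cm_quotient_iff (R : Type u) [CommRing R] [IsLocalRing R] [IsNoetherianRing R]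
    (J : Ideal R) (x : R) (hJ : J = Ideal.span {x}) (hx : x ∈ maximalIdeal R)
    (hreg : IsSMulRegular R x) [IsLocalRing (R ⧸ J)] :
    IsCohenMacaulayLocalRing R ↔ IsCohenMacaulayLocalRing (R ⧸ J) := by
  have h1 := Sk.depth_quotient_add_one' R J x hJ hx hreg
  have h2 := Sk.ringKrullDim_quotient_add_one' R J x hJ hx hreg
  rw [cm_iff_dim_eq_depth, cm_iff_dim_eq_depth, ← h1, ← h2]
  constructor
  · intro h
    exact withBot_add_one_cancel h
  · intro h
    rw [h]
    rfl

/-- Cohen–Macaulayness at a prime containing a regular element can be tested modulo it -/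
theorem cm_atPrime_iff_quotient (A : Type u) [CommRing A] [IsNoetherianRing A] (t : A)
    (hreg : IsSMulRegular A t) (q : Ideal A) [hq : q.IsPrime] (htq : t ∈ q)
    [hQ : (q.map (Ideal.Quotient.mk (Ideal.span {t}))).IsPrime] :
    IsCohenMacaulayLocalRing (Localization.AtPrime q) ↔
      IsCohenMacaulayLocalRing
        (Localization.AtPrime (q.map (Ideal.Quotient.mk (Ideal.span {t})))) := by
  set I := Ideal.span {t} with hI
  have hIq : I ≤ q := by rw [hI, Ideal.span_singleton_le_iff_mem]; exact htq
  set R := Localization.AtPrime q with hR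
  set x := algebraMap A R t with hxdef
  have hx : x ∈ maximalIdeal R := (IsLocalization.AtPrime.to_map_mem_maximal_iff R q t).mpr htq
  have hxreg : IsSMulRegular R x := IsSMulRegular.of_isLocalization R q.primeCompl hreg
  set J := I.map (algebraMap A R) with hJdef
  have hJ : J = Ideal.span {x} := by
    rw [hJdef, hI, Ideal.map_span, Set.image_singleton]
  have hJm : J ≤ maximalIdeal R := by
    rw [hJ, Ideal.span_singleton_le_iff_mem]; exact hx
  have : IsLocalRing (R ⧸ J) := RLR.isLocalRing_quotient hJm
  let σ : Localization.AtPrime (q.map (Ideal.Quotient.mk I)) ≃+* (R ⧸ J) :=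
    Sk.locQuotEquiv A I q hIq
  rw [cm_quotient_iff R J x hJ hx hxreg]
  exact ⟨fun h => Groth.Agent.Lib.Helper4.StalkClosedPt1.cm_of_ringEquiv _ _ σ.symm h,
    fun h => Groth.Agent.Lib.Helper4.StalkClosedPt1.cm_of_ringEquiv _ _ σ h⟩

/-- a Cohen–Macaulay ring modulo a regular element is Cohen–Macaulay -/
theorem isCohenMacaulayRing_quotient_of_regular (A : Type u) [CommRing A]
    (hA : IsCohenMacaulayRing A) (t : A) (hreg : IsSMulRegular A t) :
    IsCohenMacaulayRing (A ⧸ Ideal.span {t}) := by
  haveI := hA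
  haveI : IsNoetherianRing A := inferInstance
  refine ⟨fun pb hpb => ?_⟩
  haveI hq : (pb.comap (Ideal.Quotient.mk (Ideal.span {t}))).IsPrime := Ideal.comap_isPrime _ _
  have hmap : (pb.comap (Ideal.Quotient.mk (Ideal.span {t}))).map
      (Ideal.Quotient.mk (Ideal.span {t})) = pb :=
    Ideal.map_comap_of_surjective _ Ideal.Quotient.mk_surjective _
  have htq : t ∈ pb.comap (Ideal.Quotient.mk (Ideal.span {t})) := by
    rw [Ideal.mem_comap, Ideal.Quotient.eq_zero_iff_mem.mpr (Ideal.mem_span_singleton_self t)]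
    exact zero_mem _
  have key : ∀ (Q : Ideal (A ⧸ Ideal.span {t})) [Q.IsPrime], Q = pb →
      IsCohenMacaulayLocalRing (Localization.AtPrime Q) →
      IsCohenMacaulayLocalRing (Localization.AtPrime pb) := by
    intro Q _ h
    subst h
    exact id
  haveI hQ : ((pb.comap (Ideal.Quotient.mk (Ideal.span {t}))).map
      (Ideal.Quotient.mk (Ideal.span {t}))).IsPrime := by rw [hmap]; exact hpb
  exact key _ hmap ((cm_atPrime_iff_quotient A t hreg _ htq).mp
    (IsCohenMacaulayRing.isCohenMacaulayLocalRing_localization _))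

end Local

section Graded

variable {R : Type u} [CommRing R] [IsNoetherianRing R] (𝒜 : ℤ → AddSubgroup R) [GradedRing 𝒜]

/-- in a `ℤ`-graded Noetherian ring, Cohen–Macaulayness at `p*` implies it at `p` -/
theorem cm_of_cm_core (p : Ideal R) [hp : p.IsPrime] [hc : (core 𝒜 p).IsPrime]
    (h : IsCohenMacaulayLocalRing (Localization.AtPrime (core 𝒜 p))) :
    IsCohenMacaulayLocalRing (Localization.AtPrime p) := by
  have hcp : core 𝒜 p ≤ p := core_le 𝒜 p
  haveI hpm : (p.map (Ideal.Quotient.mk (core 𝒜 p))).IsPrime :=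
    Ideal.isPrime_map_quotientMk_of_isPrime hcp
  have hfin : (p.map (Ideal.Quotient.mk (core 𝒜 p))).height ≠ ⊤ :=
    Ideal.height_ne_top hpm.ne_top
  obtain ⟨d, hd⟩ := ENat.ne_top_iff_exists.mp hfin
  have h1 := Groth.Agent.Lib.Helper6.GrDepth.depth_localization_eq_add_height_core R 𝒜 R 𝒜 p d
    hd.symm
  rw [depth_localizedModule_self, depth_localizedModule_self] at h1
  have h2 := Groth.Agent.Lib.Helper6.GrDim.height_eq_core_add 𝒜 p
  rw [← hd] at h2
  have h3 := (cm_iff_dim_eq_depth _).mp h
  rw [IsLocalization.AtPrime.ringKrullDim_eq_height (core 𝒜 p)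
    (Localization.AtPrime (core 𝒜 p))] at h3
  have h3' : (core 𝒜 p).height = depth (Localization.AtPrime (core 𝒜 p))
      (Localization.AtPrime (core 𝒜 p)) := by exact_mod_cast h3
  rw [cm_iff_dim_eq_depth, IsLocalization.AtPrime.ringKrullDim_eq_height p (Localization.AtPrime p),
    h1, h2, h3']

end Graded

end Groth.Agent.Lib.Helper6.FiltBl
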