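import Mathlib
import Groth.Prelude.Def_W4c2filtblowupsingRees

set_option autoImplicit false
set_option linter.unusedSectionVars false
set_option linter.unusedVariables false
set_option linter.unusedSimpArgs false
set_option linter.style.haveILetI false
set_option maxHeartbeats 400000

/-!
# The extended Rees algebra of a filtration: grading, Noetherianity, the element `u`
-/

open Polynomial LaurentPolynomial DirectSum

universe u

noncomputable section

namespace Groth.Agent.Lib.Helper6.FiltBl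

variable {A : Type u} [CommRing A] (𝓕 : FiltBl.IdealFiltration A)

theorem mem_extRees {f : A[T;T⁻¹]} : f ∈ 𝓕.extRees ↔ ∀ n : ℤ, f.coeff n ∈ 𝓕.F n.toNat := Iff.rfl

theorem coeff_mem (x : 𝓕.extRees) (n : ℤ) : (x : A[T;T⁻¹]).coeff n ∈ 𝓕.F n.toNat := x.2 n

/-- the homogeneous element `a T^n` -/
def mono (n : ℤ) (a : A) (ha : a ∈ 𝓕.F n.toNat) : 𝓕.extRees :=
  ⟨AddMonoidAlgebra.single n a, fun m => by
    rw [AddMonoidAlgebra.coeff_single, Finsupp.single_apply]
    split_ifs with h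
    · subst h; exact ha
    · exact zero_mem _⟩

@[simp] theorem coe_mono (n : ℤ) (a : A) (ha : a ∈ 𝓕.F n.toNat) :
    ((mono 𝓕 n a ha : 𝓕.extRees) : A[T;T⁻¹]) = AddMonoidAlgebra.single n a := rfl

/-- the coefficient at `n`, as an additive map -/
def coeffAt (n : ℤ) : 𝓕.extRees →+ A where
  toFun x := (x : A[T;T⁻¹]).coeff n
  map_zero' := rfl
  map_add' x y := rfl

@[simp] theorem coeffAt_apply (n : ℤ) (x : 𝓕.extRees) :
    coeffAt 𝓕 n x = (x : A[T;T⁻¹]).coeff n := rfl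

/-- the graded pieces of the extended Rees algebra -/
def gr (n : ℤ) : AddSubgroup 𝓕.extRees where
  carrier := {x | ∀ m, m ≠ n → (x : A[T;T⁻¹]).coeff m = 0}
  add_mem' := fun {x y} hx hy m hm => by
    have h1 : ((x + y : 𝓕.extRees) : A[T;T⁻¹]).coeff m =
      (x : A[T;T⁻¹]).coeff m + (y : A[T;T⁻¹]).coeff m := rfl
    rw [h1, hx m hm, hy m hm, add_zero]
  zero_mem' := fun m _ => rfl
  neg_mem' := fun {x} hx m hm => by
    have h1 : ((-x : 𝓕.extRees) : A[T;T⁻¹]).coeff m = -((x : A[T;T⁻¹]).coeff m) := rfl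
    rw [h1, hx m hm, neg_zero]

theorem mem_gr {n : ℤ} {x : 𝓕.extRees} :
    x ∈ gr 𝓕 n ↔ ∀ m, m ≠ n → (x : A[T;T⁻¹]).coeff m = 0 := Iff.rfl

theorem mono_mem_gr (n : ℤ) (a : A) (ha : a ∈ 𝓕.F n.toNat) : mono 𝓕 n a ha ∈ gr 𝓕 n := by
  intro m hm
  rw [coe_mono, AddMonoidAlgebra.coeff_single, Finsupp.single_apply, if_neg (Ne.symm hm)]

theorem coe_eq_single_of_mem_gr {n : ℤ} {x : 𝓕.extRees} (hx : x ∈ gr 𝓕 n) :
    (x : A[T;T⁻¹]) = AddMonoidAlgebra.single n ((x : A[T;T⁻¹]).coeff n) := by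
  ext m
  rw [AddMonoidAlgebra.coeff_single, Finsupp.single_apply]
  split_ifs with h
  · subst h; rfl
  · exact hx m (Ne.symm h)

theorem eq_mono_of_mem_gr {n : ℤ} {x : 𝓕.extRees} (hx : x ∈ gr 𝓕 n) :
    x = mono 𝓕 n ((x : A[T;T⁻¹]).coeff n) (coeff_mem 𝓕 x n) :=
  Subtype.ext (coe_eq_single_of_mem_gr 𝓕 hx)

instance gradedMonoid : SetLike.GradedMonoid (gr 𝓕) where
  one_mem := by
    intro m hm
    have h1 : ((1 : 𝓕.extRees) : A[T;T⁻¹]) = AddMonoidAlgebra.single 0 1 := rfl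
    rw [h1, AddMonoidAlgebra.coeff_single, Finsupp.single_apply, if_neg (Ne.symm hm)]
  mul_mem := by
    intro i j x y hx hy m hm
    have h1 : ((x * y : 𝓕.extRees) : A[T;T⁻¹]) = (x : A[T;T⁻¹]) * (y : A[T;T⁻¹]) := rfl
    rw [h1, coe_eq_single_of_mem_gr 𝓕 hx, coe_eq_single_of_mem_gr 𝓕 hy,
      AddMonoidAlgebra.single_mul_single, AddMonoidAlgebra.coeff_single, Finsupp.single_apply,
      if_neg (Ne.symm hm)]

theorem coe_sum_coeff {ι : Type*} (s : Finset ι) (f : ι → 𝓕.extRees) (n : ℤ) :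
    ((∑ i ∈ s, f i : 𝓕.extRees) : A[T;T⁻¹]).coeff n = ∑ i ∈ s, ((f i : 𝓕.extRees) : A[T;T⁻¹]).coeff n :=
  map_sum (coeffAt 𝓕 n) f s

theorem coe_injective : Function.Injective (DirectSum.coeAddMonoidHom (gr 𝓕)) := by
  classical
  rw [injective_iff_map_eq_zero]
  intro y hy
  have hsum : DirectSum.coeAddMonoidHom (gr 𝓕) y = ∑ g ∈ y.support, (y g : 𝓕.extRees) := by
    rw [DirectSum.coeAddMonoidHom_eq_dfinsuppSum]
    rfl
  refine DFinsupp.ext fun g => Subtype.ext ?_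
  have h1 : ((DirectSum.coeAddMonoidHom (gr 𝓕) y : 𝓕.extRees) : A[T;T⁻¹]).coeff g =
      ((y g : 𝓕.extRees) : A[T;T⁻¹]).coeff g := by
    rw [hsum, coe_sum_coeff]
    by_cases hg : g ∈ y.support
    · rw [Finset.sum_eq_single_of_mem g hg]
      intro m _ hmg
      exact (y m).2 g (Ne.symm hmg)
    · rw [DFinsupp.mem_support_iff, not_not] at hg
      rw [hg]
      apply Finset.sum_eq_zero
      intro m _
      by_cases hmg : m = g
      · subst hmg; rw [hg]; rfl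
      · exact (y m).2 g (Ne.symm hmg)
  rw [hy] at h1
  have h2 : (y g : 𝓕.extRees) = 0 := by
    rw [eq_mono_of_mem_gr 𝓕 (y g).2]
    apply Subtype.ext
    rw [coe_mono, ← h1]
    change AddMonoidAlgebra.single g (0 : A) = 0
    simp
  rw [h2]
  rfl

theorem eq_sum_mono (x : 𝓕.extRees) :
    x = ∑ n ∈ (x : A[T;T⁻¹]).coeff.support,
      mono 𝓕 n ((x : A[T;T⁻¹]).coeff n) (coeff_mem 𝓕 x n) := by
  classical
  apply Subtype.ext
  ext m
  rw [coe_sum_coeff]
  simp only [coe_mono, AddMonoidAlgebra.coeff_single, Finsupp.single_apply]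
  rw [Finset.sum_ite_eq' ]
  split_ifs with h
  · rfl
  · rw [Finsupp.mem_support_iff, not_not] at h
    exact h

theorem coe_surjective : Function.Surjective (DirectSum.coeAddMonoidHom (gr 𝓕)) := by
  classical
  intro x
  refine ⟨∑ n ∈ (x : A[T;T⁻¹]).coeff.support,
    DirectSum.of (fun g => gr 𝓕 g) n
      ⟨mono 𝓕 n ((x : A[T;T⁻¹]).coeff n) (coeff_mem 𝓕 x n), mono_mem_gr 𝓕 _ _ _⟩, ?_⟩
  rw [map_sum]
  simp only [DirectSum.coeAddMonoidHom_of]
  exact (eq_sum_mono 𝓕 x).symm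

theorem isInternal : DirectSum.IsInternal (gr 𝓕) :=
  ⟨coe_injective 𝓕, coe_surjective 𝓕⟩

/-- the `ℤ`-grading of the extended Rees algebra -/
@[instance_reducible]
def gradedRing : GradedRing (gr 𝓕) :=
  { gradedMonoid 𝓕 with
    toDecomposition := (isInternal 𝓕).chooseDecomposition }

end Groth.Agent.Lib.Helper6.FiltBl
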