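import Mathlib
import Groth.Agent.Lib.Helper6.FiltBl.FBa

set_option autoImplicit false
set_option linter.unusedSectionVars false
set_option linter.unusedVariables false
set_option linter.unusedSimpArgs false
set_option linter.style.haveILetI false
set_option maxHeartbeats 400000

/-!
# The extended Rees algebra: Noetherianity, the regular element `u`, homogeneous ideals
-/

open Polynomial LaurentPolynomial DirectSum

universe u

noncomputable section

namespace Groth.Agent.Lib.Helper6.FiltBl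

variable {A : Type u} [CommRing A] (𝓕 : FiltBl.IdealFiltration A)

attribute [local instance] gradedRing

section ToLaurent

theorem toLaurent_coeff (f : A[X]) (n : ℤ) :
    (Polynomial.toLaurent f).coeff n = if 0 ≤ n then f.coeff n.toNat else 0 := by
  induction f using Polynomial.induction_on' with
  | add p q hp hq =>
    rw [map_add, AddMonoidAlgebra.coeff_add, Finsupp.add_apply, hp, hq, Polynomial.coeff_add]
    split_ifs <;> simp
  | monomial k r =>
    rw [Polynomial.toLaurent_C_mul_T, ← LaurentPolynomial.single_eq_C_mul_T,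
      AddMonoidAlgebra.coeff_single, Finsupp.single_apply, Polynomial.coeff_monomial]
    by_cases h0 : 0 ≤ n
    · rw [if_pos h0]
      by_cases hk : (k : ℤ) = n
      · rw [if_pos hk, if_pos (by omega)]
      · rw [if_neg hk, if_neg (by omega)]
    · rw [if_neg h0, if_neg (by omega)]

theorem toLaurent_mem (f : 𝓕.rees) : Polynomial.toLaurent (f : A[X]) ∈ 𝓕.extRees := by
  intro n
  rw [toLaurent_coeff]
  split_ifs with h
  · exact f.2 n.toNat
  · exact zero_mem _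

/-- the inclusion of the Rees algebra into the extended Rees algebra -/
def reesToExt : 𝓕.rees →+* 𝓕.extRees where
  toFun f := ⟨Polynomial.toLaurent (f : A[X]), toLaurent_mem 𝓕 f⟩
  map_one' := Subtype.ext (by simp)
  map_mul' f g := Subtype.ext (by simp)
  map_zero' := Subtype.ext (by simp)
  map_add' f g := Subtype.ext (by simp)

@[simp] theorem coe_reesToExt (f : 𝓕.rees) :
    ((reesToExt 𝓕 f : 𝓕.extRees) : A[T;T⁻¹]) = Polynomial.toLaurent (f : A[X]) := rfl

theorem monomial_mem_rees (k : ℕ) (a : A) (ha : a ∈ 𝓕.F k) : Polynomial.monomial k a ∈ 𝓕.rees := by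
  intro m
  rw [Polynomial.coeff_monomial]
  split_ifs with h
  · subst h; exact ha
  · exact zero_mem _

theorem coe_u : ((𝓕.u : 𝓕.extRees) : A[T;T⁻¹]) = T (-1) := rfl

theorem coe_pow (x : 𝓕.extRees) (k : ℕ) :
    ((x ^ k : 𝓕.extRees) : A[T;T⁻¹]) = (x : A[T;T⁻¹]) ^ k := rfl

theorem coe_mul (x y : 𝓕.extRees) :
    ((x * y : 𝓕.extRees) : A[T;T⁻¹]) = (x : A[T;T⁻¹]) * (y : A[T;T⁻¹]) := rfl

theorem mono_mem_range (n : ℤ) (a : A) (ha : a ∈ 𝓕.F n.toNat) :
    mono 𝓕 n a ha ∈ (Polynomial.eval₂RingHom (reesToExt 𝓕) 𝓕.u).rangeS := by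
  by_cases hn : 0 ≤ n
  · refine ⟨Polynomial.C ⟨Polynomial.monomial n.toNat a, monomial_mem_rees 𝓕 _ _ ha⟩, ?_⟩
    rw [Polynomial.coe_eval₂RingHom, Polynomial.eval₂_C]
    apply Subtype.ext
    rw [coe_reesToExt, coe_mono, Polynomial.toLaurent_C_mul_T,
      ← LaurentPolynomial.single_eq_C_mul_T, Int.toNat_of_nonneg hn]
  · refine ⟨Polynomial.C ⟨Polynomial.C a, Subalgebra.algebraMap_mem _ a⟩ *
      Polynomial.X ^ (-n).toNat, ?_⟩
    rw [Polynomial.coe_eval₂RingHom, Polynomial.eval₂_mul, Polynomial.eval₂_C,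
      Polynomial.eval₂_X_pow]
    apply Subtype.ext
    rw [coe_mul, coe_pow, coe_reesToExt, coe_mono, coe_u, Polynomial.toLaurent_C,
      LaurentPolynomial.T_pow, LaurentPolynomial.single_eq_C_mul_T]
    congr 2
    have : ((-n).toNat : ℤ) = -n := Int.toNat_of_nonneg (by omega)
    rw [this]
    ring

theorem eval₂_surjective :
    Function.Surjective (Polynomial.eval₂RingHom (reesToExt 𝓕) 𝓕.u) := by
  intro x
  rw [← RingHom.mem_rangeS, eq_sum_mono 𝓕 x]
  exact Subsemiring.sum_mem _ fun n _ => mono_mem_range 𝓕 n _ _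

theorem isNoetherianRing_extRees [IsNoetherianRing A] (hfg : Algebra.FiniteType A 𝓕.rees) :
    IsNoetherianRing 𝓕.extRees := by
  haveI : IsNoetherianRing 𝓕.rees := Algebra.FiniteType.isNoetherianRing A 𝓕.rees
  exact isNoetherianRing_of_surjective _ _ _ (eval₂_surjective 𝓕)

end ToLaurent

section U

theorem u_mem_gr : 𝓕.u ∈ gr 𝓕 (-1) := by
  intro m hm
  rw [coe_u, LaurentPolynomial.T_apply, if_neg (Ne.symm hm)]

theorem u_isSMulRegular : IsSMulRegular 𝓕.extRees 𝓕.u := by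
  intro x y h
  apply Subtype.ext
  have h1 : ((𝓕.u * x : 𝓕.extRees) : A[T;T⁻¹]) = ((𝓕.u * y : 𝓕.extRees) : A[T;T⁻¹]) :=
    congrArg Subtype.val h
  rw [coe_mul, coe_mul, coe_u] at h1
  exact (LaurentPolynomial.isUnit_T (-1)).mul_left_cancel h1

theorem coeff_mul_u (r : 𝓕.extRees) (n : ℤ) :
    ((r * 𝓕.u : 𝓕.extRees) : A[T;T⁻¹]).coeff n = (r : A[T;T⁻¹]).coeff (n + 1) := by
  rw [coe_mul, coe_u, LaurentPolynomial.T, AddMonoidAlgebra.coeff_mul_single_apply, mul_one]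
  congr 1

end U

section Homog

theorem coeff_decompose (x : 𝓕.extRees) (n : ℤ) :
    ((DirectSum.decompose (gr 𝓕) x n : 𝓕.extRees) : A[T;T⁻¹]).coeff n =
      (x : A[T;T⁻¹]).coeff n := by
  classical
  conv_rhs => rw [← DirectSum.sum_support_decompose (gr 𝓕) x]
  rw [coe_sum_coeff]
  by_cases hn : n ∈ (DirectSum.decompose (gr 𝓕) x).support
  · rw [Finset.sum_eq_single_of_mem n hn]
    intro m _ hmn
    exact (DirectSum.decompose (gr 𝓕) x m).2 n (Ne.symm hmn)
  · rw [DFinsupp.mem_support_iff, not_not] at hn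
    rw [hn]
    symm
    apply Finset.sum_eq_zero
    intro m _
    by_cases hmn : m = n
    · subst hmn; rw [hn]; rfl
    · exact (DirectSum.decompose (gr 𝓕) x m).2 n (Ne.symm hmn)

theorem decompose_eq_mono (x : 𝓕.extRees) (n : ℤ) :
    (DirectSum.decompose (gr 𝓕) x n : 𝓕.extRees) =
      mono 𝓕 n ((x : A[T;T⁻¹]).coeff n) (coeff_mem 𝓕 x n) := by
  rw [eq_mono_of_mem_gr 𝓕 (DirectSum.decompose (gr 𝓕) x n).2]
  apply Subtype.ext
  rw [coe_mono, coe_mono, coeff_decompose]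

theorem mono_zero_isUnit (c : A) (hc : IsUnit c) :
    IsUnit (mono 𝓕 0 c (by rw [Int.toNat_zero, 𝓕.zero_eq]; trivial)) := by
  obtain ⟨v, rfl⟩ := hc
  refine IsUnit.of_mul_eq_one (mono 𝓕 0 (↑v⁻¹ : A) (by rw [Int.toNat_zero, 𝓕.zero_eq]; trivial)) ?_
  apply Subtype.ext
  rw [coe_mul, coe_mono, coe_mono, AddMonoidAlgebra.single_mul_single, Units.mul_inv, add_zero]
  rfl

variable [IsLocalRing A]

/-- a proper homogeneous ideal stays proper after adding `u` -/
theorem sup_span_u_ne_top (hF1 : 𝓕.F 1 ≤ IsLocalRing.maximalIdeal A) (Q : Ideal 𝓕.extRees)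
    (hQ : Q.IsHomogeneous (gr 𝓕)) (hne : Q ≠ ⊤) : Q ⊔ Ideal.span {𝓕.u} ≠ ⊤ := by
  intro htop
  have h1 : (1 : 𝓕.extRees) ∈ Q ⊔ Ideal.span {𝓕.u} := by rw [htop]; trivial
  obtain ⟨q, hq, z, hz, hqz⟩ := Submodule.mem_sup.mp h1
  obtain ⟨r, rfl⟩ := Ideal.mem_span_singleton'.mp hz
  have h2 : (q : A[T;T⁻¹]).coeff 0 + (r : A[T;T⁻¹]).coeff 1 = 1 := by
    have := congrArg (coeffAt 𝓕 0) hqz
    rw [map_add, coeffAt_apply, coeffAt_apply, coeff_mul_u, zero_add] at this
    rw [this]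
    change (AddMonoidAlgebra.single (0 : ℤ) (1 : A)).coeff 0 = 1
    rw [AddMonoidAlgebra.coeff_single, Finsupp.single_eq_same]
  have h3 : (r : A[T;T⁻¹]).coeff 1 ∈ IsLocalRing.maximalIdeal A := hF1 (coeff_mem 𝓕 r 1)
  have h4 : IsUnit ((q : A[T;T⁻¹]).coeff 0) := by
    by_contra hnu
    have h5 : (q : A[T;T⁻¹]).coeff 0 ∈ IsLocalRing.maximalIdeal A := hnu
    have h6 : (1 : A) ∈ IsLocalRing.maximalIdeal A := by
      rw [← h2]; exact Ideal.add_mem _ h5 h3
    exact (Ideal.ne_top_iff_one _).mp (IsLocalRing.maximalIdeal.isMaximal A).ne_top h6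
  have h5 : (DirectSum.decompose (gr 𝓕) q 0 : 𝓕.extRees) ∈ Q := hQ 0 hq
  rw [decompose_eq_mono] at h5
  exact hne (Ideal.eq_top_of_isUnit_mem _ h5 (mono_zero_isUnit 𝓕 _ h4))

theorem exists_maximal_ge (hF1 : 𝓕.F 1 ≤ IsLocalRing.maximalIdeal A) (Q : Ideal 𝓕.extRees)
    (hQ : Q.IsHomogeneous (gr 𝓕)) (hne : Q ≠ ⊤) :
    ∃ N : Ideal 𝓕.extRees, N.IsMaximal ∧ Q ≤ N ∧ 𝓕.u ∈ N := by
  obtain ⟨N, hN, hle⟩ := Ideal.exists_le_maximal _ (sup_span_u_ne_top 𝓕 hF1 Q hQ hne)
  exact ⟨N, hN, le_sup_left.trans hle,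
    hle (Ideal.mem_sup_right (Ideal.mem_span_singleton_self _))⟩

end Homog

end Groth.Agent.Lib.Helper6.FiltBl
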