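import Mathlib
import Groth.Agent.Lib.Helper6.FiltBl.FBb
import Groth.Agent.Lib.Helper6.FiltBl.FBc

set_option autoImplicit false
set_option linter.unusedSectionVars false
set_option linter.unusedVariables false
set_option linter.unusedSimpArgs false
set_option linter.style.haveILetI false
set_option maxHeartbeats 400000

/-!
# The extended Rees algebra is Cohen–Macaulay iff the associated graded ring is
-/

open Polynomial LaurentPolynomial DirectSum

universe u

noncomputable section

namespace Groth.Agent.Lib.Helper6.FiltBl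

open LocCoh IsLocalRing Groth.Agent.Lib.Helper6.GrHt

variable {A : Type u} [CommRing A] (𝓕 : FiltBl.IdealFiltration A)

attribute [local instance] gradedRing

theorem F_eq_top_of_F1 (h1 : 𝓕.F 1 = ⊤) (n : ℕ) : 𝓕.F n = ⊤ := by
  induction n with
  | zero => exact 𝓕.zero_eq
  | succ n ih =>
    have := 𝓕.mul_le n 1
    rw [ih, h1, Ideal.top_mul] at this
    exact top_le_iff.mp this

theorem F1_le_maximalIdeal [IsLocalRing A] (hsep : ⨅ n, 𝓕.F n = ⊥) :
    𝓕.F 1 ≤ maximalIdeal A := by
  apply IsLocalRing.le_maximalIdeal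
  intro h1
  have : (⨅ n, 𝓕.F n) = ⊤ := by
    rw [iInf_eq_top]
    exact F_eq_top_of_F1 𝓕 h1
  rw [hsep] at this
  exact bot_ne_top this

/-- every localization of the extended Rees algebra at a prime is Cohen–Macaulay as soon as
those at primes containing `u` are -/
theorem cm_localization_of_u [IsNoetherianRing A] [IsLocalRing A] (hsep : ⨅ n, 𝓕.F n = ⊥)
    (hfg : Algebra.FiniteType A 𝓕.rees)
    (hu : ∀ (N : Ideal 𝓕.extRees) [N.IsPrime], 𝓕.u ∈ N →
      IsCohenMacaulayLocalRing (Localization.AtPrime N))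
    (P : Ideal 𝓕.extRees) [hP : P.IsPrime] :
    IsCohenMacaulayLocalRing (Localization.AtPrime P) := by
  haveI : IsNoetherianRing 𝓕.extRees := isNoetherianRing_extRees 𝓕 hfg
  haveI hc : (core (gr 𝓕) P).IsPrime := core_isPrime (gr 𝓕) P
  apply cm_of_cm_core (gr 𝓕) P
  obtain ⟨N, hNmax, hQN, huN⟩ := exists_maximal_ge 𝓕 (F1_le_maximalIdeal 𝓕 hsep)
    (core (gr 𝓕) P) (core_isHomogeneous (gr 𝓕) P) hc.ne_top
  haveI : N.IsPrime := hNmax.isPrime
  have hN := hu N huN
  exact Groth.Agent.Lib.Helper4.StalkClosedPt1.prop_of_le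
    (fun S _ => IsCohenMacaulayLocalRing S)
    (fun S _ p _ hS => @Groth.Agent.Lib.Helper4.StalkClosedPt1.cm_localization S _ hS p _)
    (fun S S' _ _ e hS => Groth.Agent.Lib.Helper4.StalkClosedPt1.cm_of_ringEquiv S S' e hS)
    (core (gr 𝓕) P) N hQN (Localization.AtPrime N) (Localization.AtPrime (core (gr 𝓕) P)) hN

theorem cm_extRees_iff [IsNoetherianRing A] [IsLocalRing A] (hsep : ⨅ n, 𝓕.F n = ⊥)
    (hfg : Algebra.FiniteType A 𝓕.rees) :
    IsCohenMacaulayRing 𝓕.extRees ↔ IsCohenMacaulayRing 𝓕.Gr := by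
  constructor
  · intro h
    exact isCohenMacaulayRing_quotient_of_regular _ h 𝓕.u (u_isSMulRegular 𝓕)
  · intro hG
    haveI : IsNoetherianRing 𝓕.extRees := isNoetherianRing_extRees 𝓕 hfg
    refine ⟨fun P hP => ?_⟩
    apply cm_localization_of_u 𝓕 hsep hfg
    intro N hN huN
    have hle : Ideal.span {𝓕.u} ≤ N := by
      rw [Ideal.span_singleton_le_iff_mem]; exact huN
    haveI : (N.map (Ideal.Quotient.mk (Ideal.span {𝓕.u}))).IsPrime :=
      Ideal.isPrime_map_quotientMk_of_isPrime hle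
    exact (cm_atPrime_iff_quotient _ 𝓕.u (u_isSMulRegular 𝓕) N huN).mpr
      (hG.isCohenMacaulayLocalRing_localization _)

end Groth.Agent.Lib.Helper6.FiltBl
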