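import Mathlib
import Groth.Agent.Lib.Helper6.FiltBl.FBb

set_option autoImplicit false
set_option linter.unusedSectionVars false
set_option linter.unusedVariables false
set_option linter.unusedSimpArgs false
set_option linter.style.haveILetI false
set_option maxHeartbeats 400000

/-!
# The extended Rees algebra: evaluation at `T = 1`, with kernel `(1 - u)`
-/

open Polynomial LaurentPolynomial DirectSum

universe u

noncomputable section

namespace Groth.Agent.Lib.Helper6.FiltBl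

variable {A : Type u} [CommRing A] (𝓕 : FiltBl.IdealFiltration A)

attribute [local instance] gradedRing

/-- evaluation of Laurent polynomials at `T = 1` -/
def evL : A[T;T⁻¹] →+* A := LaurentPolynomial.eval₂ (RingHom.id A) (1 : Aˣ)

theorem evL_single (n : ℤ) (a : A) : evL (AddMonoidAlgebra.single n a : A[T;T⁻¹]) = a := by
  rw [evL, LaurentPolynomial.single_eq_C_mul_T, LaurentPolynomial.eval₂_C_mul_T]
  simp

/-- evaluation at `T = 1` on the extended Rees algebra -/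
def ev : 𝓕.extRees →+* A := evL.comp 𝓕.extRees.val.toRingHom

theorem ev_apply (x : 𝓕.extRees) : ev 𝓕 x = evL (x : A[T;T⁻¹]) := rfl

@[simp] theorem ev_mono (n : ℤ) (a : A) (ha : a ∈ 𝓕.F n.toNat) : ev 𝓕 (mono 𝓕 n a ha) = a := by
  rw [ev_apply, coe_mono, evL_single]

theorem mem_F_zero (a : A) : a ∈ 𝓕.F (0 : ℤ).toNat := by
  rw [Int.toNat_zero, 𝓕.zero_eq]; trivial

theorem ev_surjective : Function.Surjective (ev 𝓕) := fun a =>
  ⟨mono 𝓕 0 a (mem_F_zero 𝓕 a), ev_mono 𝓕 _ _ _⟩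

theorem ev_u : ev 𝓕 𝓕.u = 1 := by
  rw [ev_apply, coe_u, LaurentPolynomial.T, evL_single]

theorem ev_one_sub_u : ev 𝓕 (1 - 𝓕.u) = 0 := by
  rw [map_sub, map_one, ev_u, sub_self]

theorem algebraMap_eq_mono (a : A) :
    algebraMap A 𝓕.extRees a = mono 𝓕 0 a (mem_F_zero 𝓕 a) := by
  apply Subtype.ext
  rfl

theorem u_pow_mul_mono (k : ℕ) (m n : ℤ) (hm : m = n - k) (a : A) (ha : a ∈ 𝓕.F n.toNat)
    (hb : a ∈ 𝓕.F m.toNat) : 𝓕.u ^ k * mono 𝓕 n a ha = mono 𝓕 m a hb := by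
  apply Subtype.ext
  rw [coe_mul, coe_pow, coe_u, coe_mono, coe_mono, LaurentPolynomial.T_pow, LaurentPolynomial.T,
    AddMonoidAlgebra.single_mul_single, one_mul, hm]
  congr 1
  ring

theorem mem_F_of_le {m n : ℤ} (hmn : m ≤ n) {a : A} (ha : a ∈ 𝓕.F n.toNat) :
    a ∈ 𝓕.F m.toNat :=
  𝓕.antitone (Int.toNat_le_toNat hmn) ha

theorem mono_sub_mono_mem (m n : ℤ) (hmn : m ≤ n) (a : A) (ha : a ∈ 𝓕.F n.toNat)
    (hb : a ∈ 𝓕.F m.toNat) :
    mono 𝓕 n a ha - mono 𝓕 m a hb ∈ Ideal.span {1 - 𝓕.u} := by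
  have hk : m = n - ((n - m).toNat : ℕ) := by
    rw [Int.toNat_of_nonneg (by omega)]; ring
  rw [← u_pow_mul_mono 𝓕 (n - m).toNat m n hk a ha hb]
  have h1 : mono 𝓕 n a ha - 𝓕.u ^ (n - m).toNat * mono 𝓕 n a ha =
      (1 - 𝓕.u ^ (n - m).toNat) * mono 𝓕 n a ha := by ring
  rw [h1]
  exact Ideal.mul_mem_right _ _
    (Ideal.mem_span_singleton.mpr (one_sub_dvd_one_sub_pow 𝓕.u _))

theorem span_le_ker_ev : Ideal.span {1 - 𝓕.u} ≤ RingHom.ker (ev 𝓕) := by
  rw [Ideal.span_singleton_le_iff_mem, RingHom.mem_ker]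
  exact ev_one_sub_u 𝓕

theorem ker_ev : RingHom.ker (ev 𝓕) = Ideal.span {1 - 𝓕.u} := by
  classical
  apply le_antisymm _ (span_le_ker_ev 𝓕)
  intro x hx
  rw [RingHom.mem_ker] at hx
  obtain ⟨M, hM⟩ := Finset.exists_le (((x : A[T;T⁻¹]).coeff.support).image (fun n => -n))
  have hN : ∀ n ∈ (x : A[T;T⁻¹]).coeff.support, -M ≤ n := by
    intro n hn
    have := hM (-n) (Finset.mem_image_of_mem _ hn)
    omega
  set y : 𝓕.extRees := ∑ n ∈ ((x : A[T;T⁻¹]).coeff.support).attach,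
    mono 𝓕 (-M) ((x : A[T;T⁻¹]).coeff n) (mem_F_of_le 𝓕 (hN n n.2) (coeff_mem 𝓕 x n)) with hy
  have hxsum : x = ∑ n ∈ ((x : A[T;T⁻¹]).coeff.support).attach,
      mono 𝓕 n ((x : A[T;T⁻¹]).coeff n) (coeff_mem 𝓕 x n) := by
    rw [Finset.sum_attach _ (fun n => mono 𝓕 n ((x : A[T;T⁻¹]).coeff n) (coeff_mem 𝓕 x n))]
    exact eq_sum_mono 𝓕 x
  have hxy : x - y ∈ Ideal.span {1 - 𝓕.u} := by
    have h1 : x - y = ∑ n ∈ ((x : A[T;T⁻¹]).coeff.support).attach,
        (mono 𝓕 n ((x : A[T;T⁻¹]).coeff n) (coeff_mem 𝓕 x n) -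
          mono 𝓕 (-M) ((x : A[T;T⁻¹]).coeff n)
            (mem_F_of_le 𝓕 (hN n n.2) (coeff_mem 𝓕 x n))) := by
      rw [Finset.sum_sub_distrib]
      exact congrArg (fun z => z - y) hxsum
    rw [h1]
    exact Ideal.sum_mem _ fun n _ => mono_sub_mono_mem 𝓕 _ _ (hN n n.2) _ _ _
  have hygr : y ∈ gr 𝓕 (-M) := by
    rw [hy]
    exact AddSubgroup.sum_mem _ fun n _ => mono_mem_gr 𝓕 _ _ _
  have hevy : ev 𝓕 y = 0 := by
    have h1 : ev 𝓕 (x - y) = 0 := RingHom.mem_ker.mp (span_le_ker_ev 𝓕 hxy)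
    rw [map_sub, hx, zero_sub, neg_eq_zero] at h1
    exact h1
  have hy0 : y = 0 := by
    rw [eq_mono_of_mem_gr 𝓕 hygr] at hevy ⊢
    rw [ev_mono] at hevy
    apply Subtype.ext
    rw [coe_mono, hevy]
    change AddMonoidAlgebra.single (-M) (0 : A) = 0
    simp
  rw [hy0, sub_zero] at hxy
  exact hxy

theorem one_sub_u_isSMulRegular : IsSMulRegular 𝓕.extRees (1 - 𝓕.u) := by
  classical
  suffices key : ∀ x : 𝓕.extRees, (1 - 𝓕.u) * x = 0 → x = 0 by
    intro a b hab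
    have h1 : (1 - 𝓕.u) * (a - b) = 0 := by
      rw [mul_sub]; exact sub_eq_zero.mpr hab
    exact sub_eq_zero.mp (key _ h1)
  intro x hx
  rw [sub_mul, one_mul, sub_eq_zero] at hx
  by_contra hne
  have hne' : (x : A[T;T⁻¹]).coeff.support.Nonempty := by
    rw [Finsupp.support_nonempty_iff]
    intro h0
    apply hne
    apply Subtype.ext
    rw [← AddMonoidAlgebra.coeff_inj]
    exact h0
  set n := (x : A[T;T⁻¹]).coeff.support.max' hne' with hn
  have h1 : (x : A[T;T⁻¹]).coeff n ≠ 0 :=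
    Finsupp.mem_support_iff.mp (Finset.max'_mem _ hne')
  have h2 : (x : A[T;T⁻¹]).coeff (n + 1) = 0 := by
    by_contra h
    have := Finset.le_max' _ _ (Finsupp.mem_support_iff.mpr h)
    omega
  apply h1
  conv_lhs => rw [hx]
  rw [mul_comm, coeff_mul_u, h2]

end Groth.Agent.Lib.Helper6.FiltBl
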