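import Mathlib
import Groth.Agent.Lib.Helper6.FiltBl.FBe
import Groth.Agent.Lib.Helper6.GrHt.ZCase

set_option autoImplicit false
set_option linter.unusedSectionVars false
set_option linter.unusedVariables false
set_option linter.unusedSimpArgs false
set_option linter.style.haveILetI false
set_option maxHeartbeats 400000

/-!
# The extended Rees algebra: the homogeneous primes not containing `u`
-/

open Polynomial LaurentPolynomial DirectSum

universe u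

noncomputable section

namespace Groth.Agent.Lib.Helper6.FiltBl

open Groth.Agent.Lib.Helper6.GrHt

variable {A : Type u} [CommRing A] (𝓕 : FiltBl.IdealFiltration A)

attribute [local instance] gradedRing

/-- reduction of the coefficients modulo `𝔮` -/
def qmap (𝔮 : Ideal A) : 𝓕.extRees →+* (A ⧸ 𝔮)[T;T⁻¹] :=
  (AddMonoidAlgebra.mapRingHom ℤ (Ideal.Quotient.mk 𝔮)).comp 𝓕.extRees.val.toRingHom

theorem qmap_coeff (𝔮 : Ideal A) (x : 𝓕.extRees) (n : ℤ) :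
    (qmap 𝓕 𝔮 x).coeff n = Ideal.Quotient.mk 𝔮 ((x : A[T;T⁻¹]).coeff n) := by
  change (AddMonoidAlgebra.mapRingHom ℤ (Ideal.Quotient.mk 𝔮) (x : A[T;T⁻¹])).coeff n = _
  rw [AddMonoidAlgebra.coeff_mapRingHom]

/-- the elements of the extended Rees algebra with all coefficients in `𝔮` -/
def qext (𝔮 : Ideal A) : Ideal 𝓕.extRees := RingHom.ker (qmap 𝓕 𝔮)

theorem mem_qext {𝔮 : Ideal A} {x : 𝓕.extRees} :
    x ∈ qext 𝓕 𝔮 ↔ ∀ n, (x : A[T;T⁻¹]).coeff n ∈ 𝔮 := by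
  rw [qext, RingHom.mem_ker]
  constructor
  · intro h n
    have h1 := qmap_coeff 𝓕 𝔮 x n
    rw [h] at h1
    exact Ideal.Quotient.eq_zero_iff_mem.mp h1.symm
  · intro h
    ext n
    rw [qmap_coeff, Ideal.Quotient.eq_zero_iff_mem.mpr (h n)]
    rfl

theorem mono_mem_qext {𝔮 : Ideal A} (n : ℤ) (a : A) (ha : a ∈ 𝓕.F n.toNat) :
    mono 𝓕 n a ha ∈ qext 𝓕 𝔮 ↔ a ∈ 𝔮 := by
  rw [mem_qext]
  constructor
  · intro h
    have := h n
    rwa [coe_mono, AddMonoidAlgebra.coeff_single, Finsupp.single_eq_same] at this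
  · intro h m
    rw [coe_mono, AddMonoidAlgebra.coeff_single, Finsupp.single_apply]
    split_ifs
    · exact h
    · exact zero_mem _

instance qext_isPrime (𝔮 : Ideal A) [𝔮.IsPrime] : (qext 𝓕 𝔮).IsPrime :=
  RingHom.ker_isPrime _

theorem qext_isHomogeneous (𝔮 : Ideal A) : (qext 𝓕 𝔮).IsHomogeneous (gr 𝓕) := by
  intro i x hx
  rw [decompose_eq_mono, mono_mem_qext]
  exact (mem_qext 𝓕).mp hx i

theorem u_notMem_qext {𝔮 : Ideal A} (h𝔮 : 𝔮 ≠ ⊤) : 𝓕.u ∉ qext 𝓕 𝔮 := by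
  intro h
  have := (mem_qext 𝓕).mp h (-1)
  rw [coe_u, LaurentPolynomial.T_apply, if_pos rfl] at this
  exact h𝔮 ((Ideal.eq_top_iff_one _).mpr this)

theorem one_sub_u_notMem_qext {𝔮 : Ideal A} (h𝔮 : 𝔮 ≠ ⊤) : 1 - 𝓕.u ∉ qext 𝓕 𝔮 := by
  intro h
  have := (mem_qext 𝓕).mp h 0
  have h1 : ((1 - 𝓕.u : 𝓕.extRees) : A[T;T⁻¹]).coeff 0 = 1 := by
    change ((1 : A[T;T⁻¹]) - T (-1)).coeff 0 = 1
    rw [AddMonoidAlgebra.coeff_sub, Finsupp.sub_apply, LaurentPolynomial.T_apply,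
      if_neg (by decide), sub_zero]
    change (AddMonoidAlgebra.single (0 : ℤ) (1 : A)).coeff 0 = 1
    rw [AddMonoidAlgebra.coeff_single, Finsupp.single_eq_same]
  rw [h1] at this
  exact h𝔮 ((Ideal.eq_top_iff_one _).mpr this)

theorem ev_eq_sum (x : 𝓕.extRees) :
    ev 𝓕 x = ∑ n ∈ (x : A[T;T⁻¹]).coeff.support, (x : A[T;T⁻¹]).coeff n := by
  conv_lhs => rw [eq_sum_mono 𝓕 x]
  rw [map_sum]
  exact Finset.sum_congr rfl fun n _ => ev_mono 𝓕 _ _ _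

theorem qext_le_comap_ev (𝔮 : Ideal A) : qext 𝓕 𝔮 ≤ 𝔮.comap (ev 𝓕) := by
  intro x hx
  rw [Ideal.mem_comap, ev_eq_sum]
  exact Ideal.sum_mem _ fun n _ => (mem_qext 𝓕).mp hx n

theorem core_comap_ev (𝔮 : Ideal A) : core (gr 𝓕) (𝔮.comap (ev 𝓕)) = qext 𝓕 𝔮 := by
  apply le_antisymm
  · intro x hx
    rw [mem_qext]
    intro n
    have h1 : (DirectSum.decompose (gr 𝓕) x n : 𝓕.extRees) ∈ core (gr 𝓕) (𝔮.comap (ev 𝓕)) :=
      core_isHomogeneous (gr 𝓕) _ n hx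
    have h2 := core_le (gr 𝓕) _ h1
    rw [decompose_eq_mono, Ideal.mem_comap, ev_mono] at h2
    exact h2
  · exact le_core_of_isHomogeneous (gr 𝓕) (qext_isHomogeneous 𝓕 𝔮) (qext_le_comap_ev 𝓕 𝔮)

section Classify

variable (Q : Ideal 𝓕.extRees) [hQp : Q.IsPrime] (hu : 𝓕.u ∉ Q)

include hu in
theorem mono_mem_iff_of_le (m n : ℤ) (hmn : m ≤ n) (a : A) (ha : a ∈ 𝓕.F n.toNat)
    (hb : a ∈ 𝓕.F m.toNat) : mono 𝓕 m a hb ∈ Q ↔ mono 𝓕 n a ha ∈ Q := by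
  have hk : m = n - ((n - m).toNat : ℕ) := by
    rw [Int.toNat_of_nonneg (by omega)]; ring
  rw [← u_pow_mul_mono 𝓕 (n - m).toNat m n hk a ha hb]
  constructor
  · intro h
    rcases hQp.mem_or_mem h with h1 | h1
    · exact absurd (hQp.mem_of_pow_mem _ h1) hu
    · exact h1
  · intro h
    exact Q.mul_mem_left _ h

include hu in
theorem mono_mem_iff (n : ℤ) (a : A) (ha : a ∈ 𝓕.F n.toNat) :
    mono 𝓕 n a ha ∈ Q ↔ a ∈ Q.comap (algebraMap A 𝓕.extRees) := by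
  rw [Ideal.mem_comap, algebraMap_eq_mono]
  rcases le_total n 0 with h | h
  · exact mono_mem_iff_of_le 𝓕 Q hu n 0 h a _ _
  · exact (mono_mem_iff_of_le 𝓕 Q hu 0 n h a _ _).symm

include hu in
/-- a homogeneous prime not containing `u` is extended from `A` -/
theorem eq_qext_of_isHomogeneous (hQ : Q.IsHomogeneous (gr 𝓕)) :
    Q = qext 𝓕 (Q.comap (algebraMap A 𝓕.extRees)) := by
  ext x
  rw [mem_qext]
  constructor
  · intro hx n
    have h1 : (DirectSum.decompose (gr 𝓕) x n : 𝓕.extRees) ∈ Q := hQ n hx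
    rw [decompose_eq_mono] at h1
    exact (mono_mem_iff 𝓕 Q hu n _ _).mp h1
  · intro h
    rw [eq_sum_mono 𝓕 x]
    exact Ideal.sum_mem _ fun n _ => (mono_mem_iff 𝓕 Q hu n _ _).mpr (h n)

end Classify

end Groth.Agent.Lib.Helper6.FiltBl
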