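import Mathlib
import Groth.Agent.Lib.Helper8.Serre1
import Groth.Agent.Lib.Helper6.FiltBl.FBc

set_option autoImplicit false
set_option linter.unusedSectionVars false
set_option linter.unusedVariables false
set_option linter.unusedSimpArgs false
set_option linter.style.haveILetI false
set_option maxHeartbeats 400000

/-!
# Depth and height at a prime versus those modulo a regular element; Serre's conditions
-/

universe u

namespace Groth.Agent.Lib.Helper6.FiltBl

open LocCoh IsLocalRing RingTheory.Sequence Groth.Agent.Helper8 Groth.Agent.Helper8.Depth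
  Groth.Agent.Lib.Helper6.GrHt

section Quot

variable (R : Type u) [CommRing R] [IsNoetherianRing R]

/-- depth and height at a prime containing a regular element `t`, versus those modulo `t` -/
theorem depth_height_quotient (t : R) (hreg : IsSMulRegular R t) (q : Ideal R) [hq : q.IsPrime]
    (htq : t ∈ q) [hQ : (q.map (Ideal.Quotient.mk (Ideal.span {t}))).IsPrime] :
    depth (Localization.AtPrime q) (Localization.AtPrime q) =
      depth (Localization.AtPrime (q.map (Ideal.Quotient.mk (Ideal.span {t}))))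
        (Localization.AtPrime (q.map (Ideal.Quotient.mk (Ideal.span {t})))) + 1 ∧
    q.height = (q.map (Ideal.Quotient.mk (Ideal.span {t}))).height + 1 := by
  set I := Ideal.span {t} with hI
  have hIq : I ≤ q := by rw [hI, Ideal.span_singleton_le_iff_mem]; exact htq
  set Q := q.map (Ideal.Quotient.mk I) with hQdef
  set S := Localization.AtPrime q with hS
  set x := algebraMap R S t with hxdef
  have hx : x ∈ maximalIdeal S := (IsLocalization.AtPrime.to_map_mem_maximal_iff S q t).mpr htq
  have hxreg : IsSMulRegular S x := IsSMulRegular.of_isLocalization S q.primeCompl hreg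
  set J := I.map (algebraMap R S) with hJdef
  have hJ : J = Ideal.span {x} := by
    rw [hJdef, hI, Ideal.map_span, Set.image_singleton]
  have hJm : J ≤ maximalIdeal S := by
    rw [hJ, Ideal.span_singleton_le_iff_mem]; exact hx
  have : IsLocalRing (S ⧸ J) := RLR.isLocalRing_quotient hJm
  let σ : Localization.AtPrime Q ≃+* (S ⧸ J) := Sk.locQuotEquiv R I q hIq
  have h1 := Sk.depth_quotient_add_one' S J x hJ hx hxreg
  have h2 := Sk.ringKrullDim_quotient_add_one' S J x hJ hx hxreg
  have h3 : depth (S ⧸ J) (S ⧸ J) = depth (Localization.AtPrime Q) (Localization.AtPrime Q) :=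
    Serre.depth_self_eq_of_ringEquiv σ
  have h4 : ringKrullDim (S ⧸ J) = (Q.height : WithBot ℕ∞) := by
    rw [← ringKrullDim_eq_of_ringEquiv σ,
      IsLocalization.AtPrime.ringKrullDim_eq_height Q (Localization.AtPrime Q)]
  have h5 : ringKrullDim S = (q.height : WithBot ℕ∞) :=
    IsLocalization.AtPrime.ringKrullDim_eq_height q S
  refine ⟨?_, ?_⟩
  · rw [← h1, h3]
  · rw [h4, h5] at h2
    exact_mod_cast h2.symm

/-- the same for a surjection whose kernel is generated by a regular element -/
theorem depth_height_of_surjective {B : Type u} [CommRing B] (φ : R →+* B)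
    (hφ : Function.Surjective φ) (t : R) (hreg : IsSMulRegular R t)
    (hker : RingHom.ker φ = Ideal.span {t}) (q : Ideal R) [hq : q.IsPrime]
    (𝔮 : Ideal B) [h𝔮 : 𝔮.IsPrime] (hq𝔮 : q = 𝔮.comap φ) :
    depth (Localization.AtPrime q) (Localization.AtPrime q) =
      depth (Localization.AtPrime 𝔮) (Localization.AtPrime 𝔮) + 1 ∧
    q.height = 𝔮.height + 1 := by
  subst hq𝔮
  have htq : t ∈ 𝔮.comap φ := by
    have : t ∈ RingHom.ker φ := by rw [hker]; exact Ideal.mem_span_singleton_self t
    rw [Ideal.mem_comap, RingHom.mem_ker.mp this]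
    exact zero_mem _
  have hIq : Ideal.span {t} ≤ 𝔮.comap φ := by
    rw [Ideal.span_singleton_le_iff_mem]; exact htq
  haveI hQ : ((𝔮.comap φ).map (Ideal.Quotient.mk (Ideal.span {t}))).IsPrime :=
    Ideal.isPrime_map_quotientMk_of_isPrime hIq
  obtain ⟨h1, h2⟩ := depth_height_quotient R t hreg (𝔮.comap φ) htq
  let e : (R ⧸ Ideal.span {t}) ≃+* B :=
    (Ideal.quotEquivOfEq hker.symm).trans (RingHom.quotientKerEquivOfSurjective hφ)
  have he : ∀ a : R, e (Ideal.Quotient.mk _ a) = φ a := fun a => rfl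
  have H : ((𝔮.comap φ).map (Ideal.Quotient.mk (Ideal.span {t}))).primeCompl.map
      e.toMonoidHom = 𝔮.primeCompl := by
    ext b
    constructor
    · rintro ⟨y, hy, rfl⟩
      obtain ⟨a, rfl⟩ := Ideal.Quotient.mk_surjective y
      change e (Ideal.Quotient.mk _ a) ∈ 𝔮.primeCompl
      rw [he]
      intro hb
      apply hy
      exact Ideal.mem_map_of_mem _ (Ideal.mem_comap.mpr hb)
    · intro hb
      obtain ⟨a, rfl⟩ := hφ b
      refine ⟨Ideal.Quotient.mk _ a, ?_, he a⟩
      intro ha
      apply hb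
      rw [SetLike.mem_coe, Ideal.mem_quotient_iff_mem hIq] at ha
      exact ha
  let σ : Localization.AtPrime ((𝔮.comap φ).map (Ideal.Quotient.mk (Ideal.span {t}))) ≃+*
      Localization.AtPrime 𝔮 :=
    IsLocalization.ringEquivOfRingEquiv _ _ e H
  have h3 : depth (Localization.AtPrime 𝔮) (Localization.AtPrime 𝔮) =
      depth (Localization.AtPrime ((𝔮.comap φ).map (Ideal.Quotient.mk (Ideal.span {t}))))
        (Localization.AtPrime ((𝔮.comap φ).map (Ideal.Quotient.mk (Ideal.span {t})))) :=
    Serre.depth_self_eq_of_ringEquiv σ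
  have h4 : ((𝔮.comap φ).map (Ideal.Quotient.mk (Ideal.span {t}))).height = 𝔮.height := by
    have h5 := ringKrullDim_eq_of_ringEquiv σ
    rw [IsLocalization.AtPrime.ringKrullDim_eq_height
        ((𝔮.comap φ).map (Ideal.Quotient.mk (Ideal.span {t})))
        (Localization.AtPrime ((𝔮.comap φ).map (Ideal.Quotient.mk (Ideal.span {t})))),
      IsLocalization.AtPrime.ringKrullDim_eq_height 𝔮 (Localization.AtPrime 𝔮)] at h5
    exact_mod_cast h5
  rw [h1, h2, h3, h4]
  exact ⟨rfl, rfl⟩

/-- Cohen–Macaulayness along such a surjection -/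
theorem cm_iff_of_surjective {B : Type u} [CommRing B] (φ : R →+* B)
    (hφ : Function.Surjective φ) (t : R) (hreg : IsSMulRegular R t)
    (hker : RingHom.ker φ = Ideal.span {t}) (q : Ideal R) [hq : q.IsPrime]
    (𝔮 : Ideal B) [h𝔮 : 𝔮.IsPrime] (hq𝔮 : q = 𝔮.comap φ) :
    IsCohenMacaulayLocalRing (Localization.AtPrime q) ↔
      IsCohenMacaulayLocalRing (Localization.AtPrime 𝔮) := by
  haveI : IsNoetherianRing B := isNoetherianRing_of_surjective R B φ hφ
  obtain ⟨h1, h2⟩ := depth_height_of_surjective R φ hφ t hreg hker q 𝔮 hq𝔮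
  rw [cm_iff_dim_eq_depth, cm_iff_dim_eq_depth,
    IsLocalization.AtPrime.ringKrullDim_eq_height q (Localization.AtPrime q),
    IsLocalization.AtPrime.ringKrullDim_eq_height 𝔮 (Localization.AtPrime 𝔮), h1, h2]
  constructor
  · intro h
    have h' : 𝔮.height + 1 =
        depth (Localization.AtPrime 𝔮) (Localization.AtPrime 𝔮) + 1 := by exact_mod_cast h
    have := ENat.add_left_injective_of_ne_top ENat.one_ne_top h'
    rw [this]
  · intro h
    have h' : 𝔮.height = depth (Localization.AtPrime 𝔮) (Localization.AtPrime 𝔮) := by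
      exact_mod_cast h
    rw [h']

/-- the comap form, for a prime of the quotient by a regular element -/
theorem depth_height_comap_mk (t : R) (hreg : IsSMulRegular R t)
    (pb : Ideal (R ⧸ Ideal.span {t})) [hpb : pb.IsPrime]
    [hq : (pb.comap (Ideal.Quotient.mk (Ideal.span {t}))).IsPrime] :
    depth (Localization.AtPrime (pb.comap (Ideal.Quotient.mk (Ideal.span {t}))))
        (Localization.AtPrime (pb.comap (Ideal.Quotient.mk (Ideal.span {t})))) =
      depth (Localization.AtPrime pb) (Localization.AtPrime pb) + 1 ∧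
    (pb.comap (Ideal.Quotient.mk (Ideal.span {t}))).height = pb.height + 1 :=
  depth_height_of_surjective R (Ideal.Quotient.mk (Ideal.span {t})) Ideal.Quotient.mk_surjective t
    hreg Ideal.mk_ker _ pb rfl

theorem cm_iff_comap_mk (t : R) (hreg : IsSMulRegular R t)
    (pb : Ideal (R ⧸ Ideal.span {t})) [hpb : pb.IsPrime]
    [hq : (pb.comap (Ideal.Quotient.mk (Ideal.span {t}))).IsPrime] :
    IsCohenMacaulayLocalRing
        (Localization.AtPrime (pb.comap (Ideal.Quotient.mk (Ideal.span {t})))) ↔
      IsCohenMacaulayLocalRing (Localization.AtPrime pb) :=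
  cm_iff_of_surjective R (Ideal.Quotient.mk (Ideal.span {t})) Ideal.Quotient.mk_surjective t
    hreg Ideal.mk_ker _ pb rfl

end Quot

section SkAt

/-- the `(S_k)` inequality at a prime -/
def SkAt (R : Type u) [CommRing R] (k : ℕ) (q : Ideal R) [q.IsPrime] : Prop :=
  min (k : ℕ∞) q.height ≤ depth (Localization.AtPrime q) (Localization.AtPrime q)

theorem hasSk_iff_skAt (R : Type u) [CommRing R] (k : ℕ) :
    HasSk k R R ↔ ∀ (q : Ideal R) [q.IsPrime], SkAt R k q := by
  rw [Serre.hasSk_self_iff]
  constructor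
  · intro h q _
    have := h q
    unfold SkAt
    exact_mod_cast this
  · intro h q _
    have := h q
    unfold SkAt at this
    exact_mod_cast this

theorem skAt_of_depth_height {R B : Type u} [CommRing R] [CommRing B] (k : ℕ) (q : Ideal R)
    [q.IsPrime] (𝔮 : Ideal B) [𝔮.IsPrime]
    (h1 : depth (Localization.AtPrime q) (Localization.AtPrime q) =
      depth (Localization.AtPrime 𝔮) (Localization.AtPrime 𝔮) + 1)
    (h2 : q.height = 𝔮.height + 1) : SkAt R (k + 1) q ↔ SkAt B k 𝔮 := by
  unfold SkAt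
  rw [h1, h2]
  have h3 : min (((k + 1 : ℕ) : ℕ∞)) (𝔮.height + 1) = min (k : ℕ∞) 𝔮.height + 1 := by
    rw [Nat.cast_add, Nat.cast_one, min_add_add_right]
  rw [h3]
  exact ENat.add_le_add_iff_right ENat.one_ne_top

theorem skAt_of_eq {R B : Type u} [CommRing R] [CommRing B] (k : ℕ) (q : Ideal R)
    [q.IsPrime] (𝔮 : Ideal B) [𝔮.IsPrime]
    (h1 : depth (Localization.AtPrime q) (Localization.AtPrime q) =
      depth (Localization.AtPrime 𝔮) (Localization.AtPrime 𝔮))
    (h2 : q.height = 𝔮.height) : SkAt R k q ↔ SkAt B k 𝔮 := by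
  unfold SkAt
  rw [h1, h2]

theorem skAt_quotient_iff (R : Type u) [CommRing R] [IsNoetherianRing R] (t : R)
    (hreg : IsSMulRegular R t) (k : ℕ) (pb : Ideal (R ⧸ Ideal.span {t})) [hpb : pb.IsPrime]
    [hq : (pb.comap (Ideal.Quotient.mk (Ideal.span {t}))).IsPrime] :
    SkAt R (k + 1) (pb.comap (Ideal.Quotient.mk (Ideal.span {t}))) ↔
      SkAt (R ⧸ Ideal.span {t}) k pb := by
  obtain ⟨h1, h2⟩ := depth_height_comap_mk R t hreg pb
  exact skAt_of_depth_height k _ pb h1 h2

theorem skAt_quotient_iff' (R : Type u) [CommRing R] [IsNoetherianRing R] (t : R)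
    (hreg : IsSMulRegular R t) (k : ℕ) (q : Ideal R) [hq : q.IsPrime] (htq : t ∈ q)
    [hQ : (q.map (Ideal.Quotient.mk (Ideal.span {t}))).IsPrime] :
    SkAt R (k + 1) q ↔
      SkAt (R ⧸ Ideal.span {t}) k (q.map (Ideal.Quotient.mk (Ideal.span {t}))) := by
  obtain ⟨h1, h2⟩ := depth_height_quotient R t hreg q htq
  exact skAt_of_depth_height k q _ h1 h2

variable {R : Type u} [CommRing R] [IsNoetherianRing R] (𝒜 : ℤ → AddSubgroup R) [GradedRing 𝒜]

/-- in a `ℤ`-graded Noetherian ring, `(S_k)` at `p*` implies `(S_k)` at `p` -/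
theorem skAt_of_core (k : ℕ) (p : Ideal R) [hp : p.IsPrime] [hc : (core 𝒜 p).IsPrime]
    (h : SkAt R k (core 𝒜 p)) : SkAt R k p := by
  have hcp : core 𝒜 p ≤ p := core_le 𝒜 p
  haveI hpm : (p.map (Ideal.Quotient.mk (core 𝒜 p))).IsPrime :=
    Ideal.isPrime_map_quotientMk_of_isPrime hcp
  have hfin : (p.map (Ideal.Quotient.mk (core 𝒜 p))).height ≠ ⊤ :=
    Ideal.height_ne_top hpm.ne_top
  obtain ⟨d, hd⟩ := ENat.ne_top_iff_exists.mp hfin
  have h1 := Groth.Agent.Lib.Helper6.GrDepth.depth_localization_eq_add_height_core R 𝒜 R 𝒜 p d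
    hd.symm
  rw [depth_localizedModule_self, depth_localizedModule_self] at h1
  have h2 := Groth.Agent.Lib.Helper6.GrDim.height_eq_core_add 𝒜 p
  rw [← hd] at h2
  unfold SkAt at h ⊢
  rw [h1, h2]
  calc min (k : ℕ∞) ((core 𝒜 p).height + d) ≤ min (k : ℕ∞) (core 𝒜 p).height + d := by
        rcases le_total (k : ℕ∞) (core 𝒜 p).height with h' | h'
        · rw [min_eq_left h']
          exact (min_le_left _ _).trans le_self_add
        · rw [min_eq_right h']
          exact min_le_right _ _
    _ ≤ _ := by gcongr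

end SkAt

end Groth.Agent.Lib.Helper6.FiltBl
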