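import Mathlib
import Groth.Agent.Lib.Helper6.FiltBl.FBf
import Groth.Agent.Lib.Helper6.FiltBl.FBg
import Groth.Agent.Lib.Helper6.FiltBl.FBd
import Groth.Agent.Lib.Helper6.GrDepth.GPd

set_option autoImplicit false
set_option linter.unusedSectionVars false
set_option linter.unusedVariables false
set_option linter.unusedSimpArgs false
set_option linter.style.haveILetI false
set_option maxHeartbeats 400000

/-!
# The extended Rees algebra: Serre's conditions and Cohen–Macaulayness on the punctured spectrum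
-/

open Polynomial LaurentPolynomial DirectSum

universe u

noncomputable section

namespace Groth.Agent.Lib.Helper6.FiltBl

open LocCoh IsLocalRing Groth.Agent.Lib.Helper6.GrHt Groth.Agent.Helper8.Depth

variable {A : Type u} [CommRing A] [IsNoetherianRing A] (𝓕 : FiltBl.IdealFiltration A)
  (hfg : Algebra.FiniteType A 𝓕.rees)

attribute [local instance] gradedRing

include hfg in
theorem depth_height_core_comap_ev (𝔮 : Ideal A) [h𝔮 : 𝔮.IsPrime]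
    [hc : (core (gr 𝓕) (𝔮.comap (ev 𝓕))).IsPrime] :
    depth (Localization.AtPrime (core (gr 𝓕) (𝔮.comap (ev 𝓕))))
        (Localization.AtPrime (core (gr 𝓕) (𝔮.comap (ev 𝓕)))) =
      depth (Localization.AtPrime 𝔮) (Localization.AtPrime 𝔮) ∧
    (core (gr 𝓕) (𝔮.comap (ev 𝓕))).height = 𝔮.height := by
  haveI : IsNoetherianRing 𝓕.extRees := isNoetherianRing_extRees 𝓕 hfg
  haveI hP : (𝔮.comap (ev 𝓕)).IsPrime := Ideal.comap_isPrime _ _
  obtain ⟨h1, h2⟩ := depth_height_of_surjective 𝓕.extRees (ev 𝓕) (ev_surjective 𝓕) (1 - 𝓕.u)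
    (one_sub_u_isSMulRegular 𝓕) (ker_ev 𝓕) (𝔮.comap (ev 𝓕)) 𝔮 rfl
  have hne : core (gr 𝓕) (𝔮.comap (ev 𝓕)) ≠ 𝔮.comap (ev 𝓕) := by
    rw [core_comap_ev]
    intro h
    have h3 : 1 - 𝓕.u ∈ 𝔮.comap (ev 𝓕) := by
      rw [Ideal.mem_comap, ev_one_sub_u]; exact zero_mem _
    rw [← h] at h3
    exact one_sub_u_notMem_qext 𝓕 h𝔮.ne_top h3
  have hd := Groth.Agent.Lib.Helper6.GrDepth.height_map_mk_core_eq_one (gr 𝓕)
    (𝔮.comap (ev 𝓕)) hne
  have h3 := Groth.Agent.Lib.Helper6.GrDepth.depth_localization_eq_add_height_core 𝓕.extRees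
    (gr 𝓕) 𝓕.extRees (gr 𝓕) (𝔮.comap (ev 𝓕)) 1 (by rw [hd]; rfl)
  rw [depth_localizedModule_self, depth_localizedModule_self] at h3
  have h4 := Groth.Agent.Lib.Helper6.GrDim.height_eq_core_add (gr 𝓕) (𝔮.comap (ev 𝓕))
  rw [hd] at h4
  constructor
  · rw [h3] at h1
    have h1' : depth (Localization.AtPrime (core (gr 𝓕) (𝔮.comap (ev 𝓕))))
        (Localization.AtPrime (core (gr 𝓕) (𝔮.comap (ev 𝓕)))) + 1 =
        depth (Localization.AtPrime 𝔮) (Localization.AtPrime 𝔮) + 1 := by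
      rw [← h1]; rfl
    exact ENat.add_left_injective_of_ne_top ENat.one_ne_top h1'
  · rw [h4] at h2
    exact ENat.add_left_injective_of_ne_top ENat.one_ne_top h2

include hfg in
/-- depth and height at the prime of the extended Rees algebra extended from a prime of `A` -/
theorem depth_height_qext (Q : Ideal 𝓕.extRees) [hQp : Q.IsPrime] (𝔮 : Ideal A) [h𝔮 : 𝔮.IsPrime]
    (hQ : Q = qext 𝓕 𝔮) :
    depth (Localization.AtPrime Q) (Localization.AtPrime Q) =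
      depth (Localization.AtPrime 𝔮) (Localization.AtPrime 𝔮) ∧ Q.height = 𝔮.height := by
  have hQ' : Q = core (gr 𝓕) (𝔮.comap (ev 𝓕)) := hQ.trans (core_comap_ev 𝓕 𝔮).symm
  subst hQ'
  exact depth_height_core_comap_ev 𝓕 hfg 𝔮

include hfg in
theorem cm_iff_qext (Q : Ideal 𝓕.extRees) [hQp : Q.IsPrime] (𝔮 : Ideal A) [h𝔮 : 𝔮.IsPrime]
    (hQ : Q = qext 𝓕 𝔮) :
    IsCohenMacaulayLocalRing (Localization.AtPrime Q) ↔
      IsCohenMacaulayLocalRing (Localization.AtPrime 𝔮) := by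
  haveI : IsNoetherianRing 𝓕.extRees := isNoetherianRing_extRees 𝓕 hfg
  obtain ⟨h1, h2⟩ := depth_height_qext 𝓕 hfg Q 𝔮 hQ
  rw [cm_iff_dim_eq_depth, cm_iff_dim_eq_depth,
    IsLocalization.AtPrime.ringKrullDim_eq_height Q (Localization.AtPrime Q),
    IsLocalization.AtPrime.ringKrullDim_eq_height 𝔮 (Localization.AtPrime 𝔮), h1, h2]

include hfg in
theorem skAt_Gr_of_extRees (k : ℕ)
    (h : ∀ (q : Ideal 𝓕.extRees) [q.IsPrime], SkAt 𝓕.extRees (k + 1) q)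
    (pb : Ideal (𝓕.extRees ⧸ Ideal.span {𝓕.u})) [hpb : pb.IsPrime] :
    SkAt (𝓕.extRees ⧸ Ideal.span {𝓕.u}) k pb := by
  haveI : IsNoetherianRing 𝓕.extRees := isNoetherianRing_extRees 𝓕 hfg
  haveI : (pb.comap (Ideal.Quotient.mk (Ideal.span {𝓕.u}))).IsPrime :=
    Ideal.comap_isPrime _ _
  exact (skAt_quotient_iff _ 𝓕.u (u_isSMulRegular 𝓕) k pb).mp (h _)

include hfg in
theorem skAt_of_extRees (k : ℕ)
    (h : ∀ (q : Ideal 𝓕.extRees) [q.IsPrime], SkAt 𝓕.extRees k q)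
    (𝔮 : Ideal A) [h𝔮 : 𝔮.IsPrime] : SkAt A k 𝔮 := by
  obtain ⟨h1, h2⟩ := depth_height_qext 𝓕 hfg (qext 𝓕 𝔮) 𝔮 rfl
  exact (skAt_of_eq k _ 𝔮 h1 h2).mp (h _)

include hfg in
theorem skAt_extRees (k : ℕ)
    (hG : ∀ (pb : Ideal (𝓕.extRees ⧸ Ideal.span {𝓕.u})) [pb.IsPrime],
      SkAt (𝓕.extRees ⧸ Ideal.span {𝓕.u}) k pb)
    (hA : ∀ (𝔮 : Ideal A) [𝔮.IsPrime], SkAt A (k + 1) 𝔮)
    (P : Ideal 𝓕.extRees) [hP : P.IsPrime] : SkAt 𝓕.extRees (k + 1) P := by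
  haveI : IsNoetherianRing 𝓕.extRees := isNoetherianRing_extRees 𝓕 hfg
  haveI hc : (core (gr 𝓕) P).IsPrime := core_isPrime (gr 𝓕) P
  apply skAt_of_core (gr 𝓕) (k + 1) P
  by_cases hu : 𝓕.u ∈ core (gr 𝓕) P
  · have hle : Ideal.span {𝓕.u} ≤ core (gr 𝓕) P := by
      rw [Ideal.span_singleton_le_iff_mem]; exact hu
    haveI : ((core (gr 𝓕) P).map (Ideal.Quotient.mk (Ideal.span {𝓕.u}))).IsPrime :=
      Ideal.isPrime_map_quotientMk_of_isPrime hle
    exact (skAt_quotient_iff' _ 𝓕.u (u_isSMulRegular 𝓕) k (core (gr 𝓕) P) hu).mpr (hG _)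
  · haveI : ((core (gr 𝓕) P).comap (algebraMap A 𝓕.extRees)).IsPrime :=
      Ideal.comap_isPrime _ _
    obtain ⟨h1, h2⟩ := depth_height_qext 𝓕 hfg (core (gr 𝓕) P)
      ((core (gr 𝓕) P).comap (algebraMap A 𝓕.extRees))
      (eq_qext_of_isHomogeneous 𝓕 (core (gr 𝓕) P) hu (core_isHomogeneous (gr 𝓕) P))
    exact (skAt_of_eq (k + 1) _ _ h1 h2).mpr (hA _)

include hfg in
/-- the extended Rees algebra satisfies `(S_{k+1})` iff the associated graded ring satisfies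
`(S_k)` and `A` satisfies `(S_{k+1})` -/
theorem hasSk_extRees_iff (k : ℕ) :
    HasSk (k + 1) 𝓕.extRees 𝓕.extRees ↔ (HasSk k 𝓕.Gr 𝓕.Gr ∧ HasSk (k + 1) A A) := by
  rw [hasSk_iff_skAt, hasSk_iff_skAt, hasSk_iff_skAt]
  constructor
  · intro h
    exact ⟨fun pb hpb => skAt_Gr_of_extRees 𝓕 hfg k h pb,
      fun 𝔮 h𝔮 => skAt_of_extRees 𝓕 hfg (k + 1) h 𝔮⟩
  · rintro ⟨hG, hA⟩ P hP
    exact skAt_extRees 𝓕 hfg k hG hA P

end Groth.Agent.Lib.Helper6.FiltBl
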