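import Mathlib
import Groth.Agent.Lib.Helper6.FiltBl.FBh

set_option autoImplicit false
set_option linter.unusedSectionVars false
set_option linter.unusedVariables false
set_option linter.unusedSimpArgs false
set_option linter.style.haveILetI false
set_option maxHeartbeats 400000

/-!
# The extended Rees algebra: Cohen–Macaulayness away from `V(R_+ R')`
-/

open Polynomial LaurentPolynomial DirectSum

universe u

noncomputable section

namespace Groth.Agent.Lib.Helper6.FiltBl

open LocCoh IsLocalRing Groth.Agent.Lib.Helper6.GrHt Groth.Agent.Helper8.Depth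

variable {A : Type u} [CommRing A] [IsNoetherianRing A] (𝓕 : FiltBl.IdealFiltration A)
  (hfg : Algebra.FiniteType A 𝓕.rees)

attribute [local instance] gradedRing

include hfg in
theorem cm_punctured_iff (G : Type u) [CommRing G] (φ : 𝓕.extRees →+* G)
    (hφ : Function.Surjective φ) (hker : RingHom.ker φ = Ideal.span {𝓕.u})
    (Rp : Ideal 𝓕.extRees)
    (hRp : Rp = Ideal.span {x : 𝓕.extRees | ∃ n : ℕ, 0 < n ∧ ∃ a ∈ 𝓕.F n,
      (x : LaurentPolynomial A) = LaurentPolynomial.C a * LaurentPolynomial.T (n : ℤ)}) :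
    (∀ (P : Ideal 𝓕.extRees) [P.IsPrime], ¬ Rp ≤ P →
        IsCohenMacaulayLocalRing (Localization.AtPrime P)) ↔
      ((∀ (p : Ideal G) [p.IsPrime], ¬ Ideal.map φ Rp ≤ p →
          IsCohenMacaulayLocalRing (Localization.AtPrime p)) ∧
        (∀ (q : Ideal A) [q.IsPrime], ¬ 𝓕.F 1 ≤ q →
            IsCohenMacaulayLocalRing (Localization.AtPrime q))) := by
  haveI : IsNoetherianRing 𝓕.extRees := isNoetherianRing_extRees 𝓕 hfg
  constructor
  · intro h
    refine ⟨fun p hp hnot => ?_, fun q hq hnot => ?_⟩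
    · haveI : (p.comap φ).IsPrime := Ideal.comap_isPrime _ _
      have hP : ¬ Rp ≤ p.comap φ := fun hle => hnot (Ideal.map_le_iff_le_comap.mpr hle)
      exact (cm_iff_of_surjective _ φ hφ 𝓕.u (u_isSMulRegular 𝓕) hker (p.comap φ) p rfl).mp
        (h (p.comap φ) hP)
    · haveI : (q.comap (ev 𝓕)).IsPrime := Ideal.comap_isPrime _ _
      obtain ⟨a, ha, haq⟩ := SetLike.not_le_iff_exists.mp hnot
      have ha' : a ∈ 𝓕.F (1 : ℤ).toNat := by simpa using ha
      have hP : ¬ Rp ≤ q.comap (ev 𝓕) := by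
        intro hle
        have hx : mono 𝓕 1 a ha' ∈ Rp := by
          rw [hRp]
          refine Ideal.subset_span ⟨1, one_pos, a, ha, ?_⟩
          rw [coe_mono, LaurentPolynomial.single_eq_C_mul_T, Nat.cast_one]
        have := hle hx
        rw [Ideal.mem_comap, ev_mono] at this
        exact haq this
      exact (cm_iff_of_surjective _ (ev 𝓕) (ev_surjective 𝓕) (1 - 𝓕.u)
        (one_sub_u_isSMulRegular 𝓕) (ker_ev 𝓕) (q.comap (ev 𝓕)) q rfl).mp
        (h (q.comap (ev 𝓕)) hP)
  · rintro ⟨hG, hA⟩ P hP hnot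
    haveI hc : (core (gr 𝓕) P).IsPrime := core_isPrime (gr 𝓕) P
    apply cm_of_cm_core (gr 𝓕) P
    have hQ : ¬ Rp ≤ core (gr 𝓕) P := fun hle => hnot (hle.trans (core_le (gr 𝓕) P))
    by_cases hu : 𝓕.u ∈ core (gr 𝓕) P
    · have hk : RingHom.ker φ ≤ core (gr 𝓕) P := by
        rw [hker, Ideal.span_singleton_le_iff_mem]; exact hu
      haveI : ((core (gr 𝓕) P).map φ).IsPrime := Ideal.map_isPrime_of_surjective hφ hk
      have hcomap : core (gr 𝓕) P = ((core (gr 𝓕) P).map φ).comap φ := by
        rw [Ideal.comap_map_of_surjective φ hφ, ← RingHom.ker_eq_comap_bot, sup_eq_left.mpr hk]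
      have hp : ¬ Ideal.map φ Rp ≤ (core (gr 𝓕) P).map φ := by
        intro hle
        apply hQ
        have := Ideal.map_le_iff_le_comap.mp hle
        rwa [← hcomap] at this
      exact (cm_iff_of_surjective _ φ hφ 𝓕.u (u_isSMulRegular 𝓕) hker (core (gr 𝓕) P)
        ((core (gr 𝓕) P).map φ) hcomap).mpr (hG _ hp)
    · haveI : ((core (gr 𝓕) P).comap (algebraMap A 𝓕.extRees)).IsPrime :=
        Ideal.comap_isPrime _ _
      have hQeq := eq_qext_of_isHomogeneous 𝓕 (core (gr 𝓕) P) hu (core_isHomogeneous (gr 𝓕) P)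
      have hq : ¬ 𝓕.F 1 ≤ (core (gr 𝓕) P).comap (algebraMap A 𝓕.extRees) := by
        intro hle
        apply hQ
        rw [hRp, Ideal.span_le]
        rintro x ⟨n, hn, a, ha, hx⟩
        apply hQeq.ge
        rw [mem_qext]
        intro m
        rw [hx, ← LaurentPolynomial.single_eq_C_mul_T, AddMonoidAlgebra.coeff_single,
          Finsupp.single_apply]
        split_ifs
        · exact hle (𝓕.antitone hn ha)
        · exact zero_mem _
      exact (cm_iff_qext 𝓕 hfg (core (gr 𝓕) P) _ hQeq).mpr (hA _ hq)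

end Groth.Agent.Lib.Helper6.FiltBl
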