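import Mathlib
import Groth.Agent.Lib.Helper8.GorFlat6
import Groth.Agent.Lib.Helper8.LD17
import Groth.Agent.Lib.Helper6.FiltBl.FBh

set_option autoImplicit false
set_option linter.unusedSectionVars false
set_option linter.unusedVariables false
set_option linter.unusedSimpArgs false
set_option linter.style.haveILetI false
set_option maxHeartbeats 400000

/-!
# The extended Rees algebra is Gorenstein iff the associated graded ring is
-/

open Polynomial LaurentPolynomial DirectSum

universe u

noncomputable section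

namespace Groth.Agent.Lib.Helper6.FiltBl

open LocCoh IsLocalRing Groth.Agent.Lib.Helper6.GrHt Groth.Agent.Helper8
  Groth.Agent.Helper8.GorFlat

section General

/-- Gorensteinness at a prime containing a regular element can be tested modulo it -/
theorem gor_atPrime_iff_quotient (A : Type u) [CommRing A] [IsNoetherianRing A] (t : A)
    (hreg : IsSMulRegular A t) (q : Ideal A) [hq : q.IsPrime] (htq : t ∈ q)
    [hQ : (q.map (Ideal.Quotient.mk (Ideal.span {t}))).IsPrime] :
    IsGorensteinLocalRing (Localization.AtPrime q) ↔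
      IsGorensteinLocalRing
        (Localization.AtPrime (q.map (Ideal.Quotient.mk (Ideal.span {t})))) := by
  set I := Ideal.span {t} with hI
  have hIq : I ≤ q := by rw [hI, Ideal.span_singleton_le_iff_mem]; exact htq
  set R := Localization.AtPrime q with hR
  set x := algebraMap A R t with hxdef
  have hx : x ∈ maximalIdeal R := (IsLocalization.AtPrime.to_map_mem_maximal_iff R q t).mpr htq
  have hxreg : IsSMulRegular R x := IsSMulRegular.of_isLocalization R q.primeCompl hreg
  have hJ : I.map (algebraMap A R) = Ideal.span {x} := by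
    rw [hI, Ideal.map_span, Set.image_singleton]
  have h1 := LD.isGorensteinLocalRing_iff_quotient R x hx hxreg
  rw [h1, ← hJ]
  exact ⟨fun h => isGorensteinLocalRing_of_ringEquiv (Sk.locQuotEquiv A I q hIq).symm h,
    fun h => isGorensteinLocalRing_of_ringEquiv (Sk.locQuotEquiv A I q hIq) h⟩

/-- Gorensteinness at a prime of a localization -/
theorem gor_atPrime_isLocalization_iff {R : Type u} [CommRing R] (M : Submonoid R)
    (S : Type u) [CommRing S] [Algebra R S] [IsLocalization M S] (P : Ideal S) [P.IsPrime] :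
    IsGorensteinLocalRing (Localization.AtPrime (P.comap (algebraMap R S))) ↔
      IsGorensteinLocalRing (Localization.AtPrime P) := by
  haveI : IsLocalization.AtPrime (Localization.AtPrime P) (P.comap (algebraMap R S)) :=
    IsLocalization.isLocalization_isLocalization_atPrime_isLocalization M
      (Localization.AtPrime P) P
  let e := (IsLocalization.algEquiv (P.comap (algebraMap R S)).primeCompl
      (Localization.AtPrime (P.comap (algebraMap R S))) (Localization.AtPrime P)).toRingEquiv
  exact ⟨fun h => isGorensteinLocalRing_of_ringEquiv e h,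
    fun h => isGorensteinLocalRing_of_ringEquiv e.symm h⟩

theorem gor_of_eq {R : Type u} [CommRing R] (p q : Ideal R) [p.IsPrime] [q.IsPrime] (h : p = q)
    (hp : IsGorensteinLocalRing (Localization.AtPrime p)) :
    IsGorensteinLocalRing (Localization.AtPrime q) := by
  subst h
  exact hp

end General

variable {A : Type u} [CommRing A] (𝓕 : FiltBl.IdealFiltration A)

attribute [local instance] gradedRing

section Away

theorem coe_u_pow (k : ℕ) : ((𝓕.u ^ k : 𝓕.extRees) : A[T;T⁻¹]) = T (-(k : ℤ)) := by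
  rw [coe_pow, coe_u, LaurentPolynomial.T_pow]
  congr 1
  ring

instance isLocalization_away_u : IsLocalization.Away 𝓕.u A[T;T⁻¹] where
  map_units := by
    rintro ⟨y, k, rfl⟩
    change IsUnit ((𝓕.u ^ k : 𝓕.extRees) : A[T;T⁻¹])
    rw [coe_u_pow]
    exact LaurentPolynomial.isUnit_T _
  surj := by
    classical
    intro z
    obtain ⟨M, hM⟩ := Finset.exists_le z.coeff.support
    have hmem : z * T (-(M.toNat : ℤ)) ∈ 𝓕.extRees := by
      intro n
      rw [LaurentPolynomial.T, AddMonoidAlgebra.coeff_mul_single_apply, mul_one]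
      by_cases hz : z.coeff (n + - -(M.toNat : ℤ)) = 0
      · rw [hz]; exact zero_mem _
      · have h1 := hM _ (Finsupp.mem_support_iff.mpr hz)
        have h2 : n.toNat = 0 := by
          have : M ≤ (M.toNat : ℤ) := Int.self_le_toNat M
          omega
        rw [h2, 𝓕.zero_eq]
        trivial
    refine ⟨(⟨z * T (-(M.toNat : ℤ)), hmem⟩, ⟨𝓕.u ^ M.toNat, M.toNat, rfl⟩), ?_⟩
    change z * ((𝓕.u ^ M.toNat : 𝓕.extRees) : A[T;T⁻¹]) = z * T (-(M.toNat : ℤ))
    rw [coe_u_pow]
  exists_of_eq := by
    intro x y h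
    refine ⟨1, ?_⟩
    have : x = y := Subtype.ext h
    rw [this]

end Away

section Main

variable [IsNoetherianRing A] (hfg : Algebra.FiniteType A 𝓕.rees)

/-- the prime of the Laurent polynomial ring extended from a prime of `A` -/
def lext (𝔮 : Ideal A) : Ideal A[T;T⁻¹] :=
  RingHom.ker (AddMonoidAlgebra.mapRingHom ℤ (Ideal.Quotient.mk 𝔮))

instance lext_isPrime (𝔮 : Ideal A) [𝔮.IsPrime] : (lext 𝔮).IsPrime := RingHom.ker_isPrime _

theorem lext_comap_extRees (𝔮 : Ideal A) :
    (lext 𝔮).comap (algebraMap 𝓕.extRees A[T;T⁻¹]) = qext 𝓕 𝔮 := by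
  ext x
  rw [Ideal.mem_comap, lext, RingHom.mem_ker, qext, RingHom.mem_ker]
  rfl

theorem lext_comap (𝔮 : Ideal A) : (lext 𝔮).comap (algebraMap A A[T;T⁻¹]) = 𝔮 := by
  ext a
  rw [Ideal.mem_comap, lext, RingHom.mem_ker]
  have h1 : algebraMap A A[T;T⁻¹] a = AddMonoidAlgebra.single 0 a := rfl
  rw [h1, AddMonoidAlgebra.mapRingHom_single, AddMonoidAlgebra.single_eq_zero,
    Ideal.Quotient.eq_zero_iff_mem]

theorem isNoetherianRing_laurent : IsNoetherianRing A[T;T⁻¹] :=
  IsLocalization.isNoetherianRing (Submonoid.powers (X : A[X])) A[T;T⁻¹] inferInstance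

include hfg in
/-- if the extended Rees algebra is Gorenstein at the homogeneous prime extended from `𝔮`, then
`A` is Gorenstein at `𝔮` -/
theorem gor_of_gor_qext (𝔮 : Ideal A) [h𝔮 : 𝔮.IsPrime]
    (h : IsGorensteinLocalRing (Localization.AtPrime (qext 𝓕 𝔮))) :
    IsGorensteinLocalRing (Localization.AtPrime 𝔮) := by
  haveI : IsNoetherianRing A[T;T⁻¹] := isNoetherianRing_laurent
  haveI : ((lext 𝔮).comap (algebraMap 𝓕.extRees A[T;T⁻¹])).IsPrime := Ideal.comap_isPrime _ _
  haveI : ((lext 𝔮).comap (algebraMap A A[T;T⁻¹])).IsPrime := Ideal.comap_isPrime _ _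
  have h1 : IsGorensteinLocalRing
      (Localization.AtPrime ((lext 𝔮).comap (algebraMap 𝓕.extRees A[T;T⁻¹]))) :=
    gor_of_eq _ _ (lext_comap_extRees 𝓕 𝔮).symm h
  have h2 : IsGorensteinLocalRing (Localization.AtPrime (lext 𝔮)) :=
    (gor_atPrime_isLocalization_iff (Submonoid.powers 𝓕.u) A[T;T⁻¹] (lext 𝔮)).mp h1
  have h3 := ((isGorensteinLocalRing_atPrime_iff A A[T;T⁻¹] (lext 𝔮)).mp h2).1
  exact gor_of_eq _ _ (lext_comap 𝔮) h3

/-- if `A` is Gorenstein, the extended Rees algebra is Gorenstein at every prime not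
containing `u` -/
theorem gor_atPrime_of_notMem (hA : IsGorensteinRing A) (P : Ideal 𝓕.extRees) [hP : P.IsPrime]
    (hu : 𝓕.u ∉ P) : IsGorensteinLocalRing (Localization.AtPrime P) := by
  have hL : IsGorensteinRing A[T;T⁻¹] :=
    isGorensteinRing_of_isLocalization (Submonoid.powers (X : A[X])) A[T;T⁻¹]
      (isGorensteinRing_polynomial A hA)
  have hdisj : Disjoint (Submonoid.powers 𝓕.u : Set 𝓕.extRees) (P : Set 𝓕.extRees) := by
    rw [Set.disjoint_left]
    rintro _ ⟨k, rfl⟩ hk
    exact hu (hP.mem_of_pow_mem _ hk)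
  haveI hP' : (P.map (algebraMap 𝓕.extRees A[T;T⁻¹])).IsPrime :=
    IsLocalization.isPrime_of_isPrime_disjoint (Submonoid.powers 𝓕.u) A[T;T⁻¹] P hP hdisj
  have hcomap : (P.map (algebraMap 𝓕.extRees A[T;T⁻¹])).comap
      (algebraMap 𝓕.extRees A[T;T⁻¹]) = P :=
    IsLocalization.under_map_of_isPrime_disjoint (Submonoid.powers 𝓕.u) A[T;T⁻¹] hP hdisj
  haveI : ((P.map (algebraMap 𝓕.extRees A[T;T⁻¹])).comap
      (algebraMap 𝓕.extRees A[T;T⁻¹])).IsPrime := Ideal.comap_isPrime _ _
  have h1 := (gor_atPrime_isLocalization_iff (Submonoid.powers 𝓕.u) A[T;T⁻¹]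
    (P.map (algebraMap 𝓕.extRees A[T;T⁻¹]))).mpr
    (hL.isGorensteinLocalRing_localization _)
  exact gor_of_eq _ _ hcomap h1

include hfg in
theorem gor_extRees_iff [IsLocalRing A] (hsep : ⨅ n, 𝓕.F n = ⊥) :
    IsGorensteinRing 𝓕.extRees ↔ IsGorensteinRing 𝓕.Gr := by
  haveI : IsNoetherianRing 𝓕.extRees := isNoetherianRing_extRees 𝓕 hfg
  constructor
  · intro h
    exact isGorensteinRing_quotient _ h 𝓕.u (u_isSMulRegular 𝓕)
  · intro hG
    -- primes containing `u`
    have hu : ∀ (N : Ideal 𝓕.extRees) [N.IsPrime], 𝓕.u ∈ N →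
        IsGorensteinLocalRing (Localization.AtPrime N) := by
      intro N hN huN
      have hle : Ideal.span {𝓕.u} ≤ N := by
        rw [Ideal.span_singleton_le_iff_mem]; exact huN
      haveI : (N.map (Ideal.Quotient.mk (Ideal.span {𝓕.u}))).IsPrime :=
        Ideal.isPrime_map_quotientMk_of_isPrime hle
      exact (gor_atPrime_iff_quotient _ 𝓕.u (u_isSMulRegular 𝓕) N huN).mpr
        (hG.isGorensteinLocalRing_localization _)
    -- homogeneous primes
    have hhom : ∀ (Q : Ideal 𝓕.extRees) [Q.IsPrime], Q.IsHomogeneous (gr 𝓕) →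
        IsGorensteinLocalRing (Localization.AtPrime Q) := by
      intro Q hQ hQh
      obtain ⟨N, hNmax, hQN, huN⟩ := exists_maximal_ge 𝓕 (F1_le_maximalIdeal 𝓕 hsep)
        Q hQh hQ.ne_top
      haveI : N.IsPrime := hNmax.isPrime
      have hN := hu N huN
      exact Groth.Agent.Lib.Helper4.StalkClosedPt1.prop_of_le
        (fun S _ => IsGorensteinLocalRing S)
        (fun S _ p _ hS => @LD.isGorensteinLocalRing_atPrime S _ hS p _)
        (fun S S' _ _ e hS => isGorensteinLocalRing_of_ringEquiv e hS)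
        Q N hQN (Localization.AtPrime N) (Localization.AtPrime Q) hN
    -- `A` is Gorenstein
    have hA : IsGorensteinRing A :=
      { isGorensteinLocalRing_localization := fun 𝔮 h𝔮 =>
          gor_of_gor_qext 𝓕 hfg 𝔮 (hhom (qext 𝓕 𝔮) (qext_isHomogeneous 𝓕 𝔮)) }
    refine { isGorensteinLocalRing_localization := fun P hP => ?_ }
    by_cases huP : 𝓕.u ∈ P
    · exact hu P huP
    · exact gor_atPrime_of_notMem 𝓕 hA P huP

end Main

end Groth.Agent.Lib.Helper6.FiltBl
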