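import Mathlib
import Groth.Agent.Lib.Helper6.FiltBl.FBj

set_option autoImplicit false
set_option linter.unusedSectionVars false
set_option linter.unusedVariables false
set_option linter.unusedSimpArgs false
set_option linter.style.haveILetI false
set_option maxHeartbeats 400000

/-!
# The extended Rees algebra is factorial iff `A` is and the associated graded ring is a domain
-/

open Polynomial LaurentPolynomial DirectSum

universe u

noncomputable section

namespace Groth.Agent.Lib.Helper6.FiltBl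

open IsLocalRing

section Laurent

variable {A : Type u} [CommRing A] [IsDomain A]

theorem eq_single_of_support_subset {f : A[T;T⁻¹]} {i : ℤ} (h : f.coeff.support ⊆ {i}) :
    f = AddMonoidAlgebra.single i (f.coeff i) := by
  ext m
  rw [AddMonoidAlgebra.coeff_single, Finsupp.single_apply]
  split_ifs with hm
  · subst hm; rfl
  · by_contra hne
    have := h (Finsupp.mem_support_iff.mpr hne)
    rw [Finset.mem_singleton] at this
    exact hm this.symm

/-- in a Laurent polynomial ring over a domain, the factors of a nonzero monomial are monomials -/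
theorem eq_single_of_mul_eq_single {f g : A[T;T⁻¹]} {n : ℤ} {a : A} (ha : a ≠ 0)
    (h : f * g = AddMonoidAlgebra.single n a) :
    ∃ (i j : ℤ) (b c : A), f = AddMonoidAlgebra.single i b ∧ g = AddMonoidAlgebra.single j c ∧
      i + j = n ∧ b * c = a := by
  classical
  have hne : (AddMonoidAlgebra.single n a : A[T;T⁻¹]) ≠ 0 := by
    rw [Ne, AddMonoidAlgebra.single_eq_zero]; exact ha
  have hf0 : f ≠ 0 := by
    rintro rfl; rw [zero_mul] at h; exact hne h.symm
  have hg0 : g ≠ 0 := by
    rintro rfl; rw [mul_zero] at h; exact hne h.symm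
  have hfs : f.coeff.support.Nonempty := by
    rw [Finsupp.support_nonempty_iff]
    intro h0; exact hf0 (AddMonoidAlgebra.coeff_inj.mp h0)
  have hgs : g.coeff.support.Nonempty := by
    rw [Finsupp.support_nonempty_iff]
    intro h0; exact hg0 (AddMonoidAlgebra.coeff_inj.mp h0)
  set i₁ := f.coeff.support.max' hfs with hi₁
  set i₀ := f.coeff.support.min' hfs with hi₀
  set j₁ := g.coeff.support.max' hgs with hj₁
  set j₀ := g.coeff.support.min' hgs with hj₀
  have hfi₁ : f.coeff i₁ ≠ 0 := Finsupp.mem_support_iff.mp (Finset.max'_mem _ hfs)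
  have hfi₀ : f.coeff i₀ ≠ 0 := Finsupp.mem_support_iff.mp (Finset.min'_mem _ hfs)
  have hgj₁ : g.coeff j₁ ≠ 0 := Finsupp.mem_support_iff.mp (Finset.max'_mem _ hgs)
  have hgj₀ : g.coeff j₀ ≠ 0 := Finsupp.mem_support_iff.mp (Finset.min'_mem _ hgs)
  have hU₁ : UniqueAdd f.coeff.support g.coeff.support i₁ j₁ := by
    intro x y hx hy hxy
    have h1 := Finset.le_max' _ _ hx
    have h2 := Finset.le_max' _ _ hy
    constructor <;> omega
  have hU₀ : UniqueAdd f.coeff.support g.coeff.support i₀ j₀ := by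
    intro x y hx hy hxy
    have h1 := Finset.min'_le _ _ hx
    have h2 := Finset.min'_le _ _ hy
    constructor <;> omega
  have hc₁ := AddMonoidAlgebra.coeff_mul_add_of_uniqueAdd hU₁
  have hc₀ := AddMonoidAlgebra.coeff_mul_add_of_uniqueAdd hU₀
  rw [h, AddMonoidAlgebra.coeff_single, Finsupp.single_apply] at hc₁ hc₀
  have hn₁ : n = i₁ + j₁ := by
    by_contra hne
    rw [if_neg hne] at hc₁
    exact mul_ne_zero hfi₁ hgj₁ hc₁.symm
  have hn₀ : n = i₀ + j₀ := by
    by_contra hne
    rw [if_neg hne] at hc₀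
    exact mul_ne_zero hfi₀ hgj₀ hc₀.symm
  have hle_i : i₀ ≤ i₁ := Finset.min'_le _ _ (Finset.max'_mem _ hfs)
  have hle_j : j₀ ≤ j₁ := Finset.min'_le _ _ (Finset.max'_mem _ hgs)
  have hi : i₀ = i₁ := by omega
  have hj : j₀ = j₁ := by omega
  have hfsub : f.coeff.support ⊆ {i₁} := by
    intro x hx
    have h1 := Finset.le_max' _ _ hx
    have h2 := Finset.min'_le _ _ hx
    rw [Finset.mem_singleton]
    omega
  have hgsub : g.coeff.support ⊆ {j₁} := by
    intro x hx
    have h1 := Finset.le_max' _ _ hx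
    have h2 := Finset.min'_le _ _ hx
    rw [Finset.mem_singleton]
    omega
  refine ⟨i₁, j₁, f.coeff i₁, g.coeff j₁, eq_single_of_support_subset hfsub,
    eq_single_of_support_subset hgsub, hn₁.symm, ?_⟩
  rw [if_pos hn₁] at hc₁
  exact hc₁.symm

theorem isUnit_single_iff (i : ℤ) (b : A) :
    IsUnit (AddMonoidAlgebra.single i b : A[T;T⁻¹]) ↔ IsUnit b := by
  constructor
  · rintro ⟨v, hv⟩
    have h1 : (AddMonoidAlgebra.single i b : A[T;T⁻¹]) * (↑v⁻¹ : A[T;T⁻¹]) =
        AddMonoidAlgebra.single 0 1 := by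
      rw [← hv, Units.mul_inv]; rfl
    obtain ⟨i', j', b', c', hb', -, -, hbc⟩ := eq_single_of_mul_eq_single one_ne_zero h1
    have hbb : b = b' ∨ b = 0 := by
      have := congrArg (fun z => z.coeff i) hb'
      simp only [AddMonoidAlgebra.coeff_single, Finsupp.single_eq_same, Finsupp.single_apply] at this
      split_ifs at this with hii
      · exact Or.inl this
      · exact Or.inr this
    rcases hbb with rfl | rfl
    · exact IsUnit.of_mul_eq_one c' hbc
    · exfalso
      have : (AddMonoidAlgebra.single i (0 : A) : A[T;T⁻¹]) = 0 := by simp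
      rw [this, zero_mul] at h1
      have h2 := congrArg (fun z => z.coeff 0) h1
      simp at h2
  · rintro ⟨v, rfl⟩
    refine IsUnit.of_mul_eq_one (AddMonoidAlgebra.single (-i) (↑v⁻¹ : A)) ?_
    rw [AddMonoidAlgebra.single_mul_single, Units.mul_inv, add_neg_cancel]
    rfl

/-- a monomial which is a prime element of the Laurent polynomial ring has prime coefficient -/
theorem prime_of_prime_single {i : ℤ} {c : A}
    (h : Prime (AddMonoidAlgebra.single i c : A[T;T⁻¹])) : Prime c := by
  have hu : IsUnit (AddMonoidAlgebra.single i (1 : A) : A[T;T⁻¹]) :=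
    (isUnit_single_iff i 1).mpr isUnit_one
  have hC : (AddMonoidAlgebra.single i c : A[T;T⁻¹]) =
      AddMonoidAlgebra.single 0 c * AddMonoidAlgebra.single i 1 := by
    rw [AddMonoidAlgebra.single_mul_single, zero_add, mul_one]
  have h0 : Prime (AddMonoidAlgebra.single 0 c : A[T;T⁻¹]) := by
    have hassoc : Associated (AddMonoidAlgebra.single 0 c : A[T;T⁻¹])
        (AddMonoidAlgebra.single i c) := by
      rw [hC]
      exact (associated_mul_unit_right _ _ hu)
    exact hassoc.symm.prime h
  refine ⟨?_, ?_, ?_⟩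
  · intro hc
    apply h0.ne_zero
    rw [hc]; simp
  · intro hc
    exact h0.not_isUnit ((isUnit_single_iff 0 c).mpr hc)
  · intro x y hxy
    obtain ⟨z, hz⟩ := hxy
    have h1 : (AddMonoidAlgebra.single 0 c : A[T;T⁻¹]) ∣
        AddMonoidAlgebra.single 0 x * AddMonoidAlgebra.single 0 y := by
      refine ⟨AddMonoidAlgebra.single 0 z, ?_⟩
      rw [AddMonoidAlgebra.single_mul_single, AddMonoidAlgebra.single_mul_single, hz]
    have key : ∀ w : A, (AddMonoidAlgebra.single 0 c : A[T;T⁻¹]) ∣ AddMonoidAlgebra.single 0 w →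
        c ∣ w := by
      rintro w ⟨q, hq⟩
      refine ⟨q.coeff 0, ?_⟩
      have := congrArg (fun z => z.coeff 0) hq
      simp only [AddMonoidAlgebra.coeff_single, Finsupp.single_eq_same] at this
      rw [this, AddMonoidAlgebra.coeff_single_mul_apply]
      simp
    rcases h0.dvd_or_dvd h1 with h2 | h2
    · exact Or.inl (key x h2)
    · exact Or.inr (key y h2)

theorem ufm_laurent [UniqueFactorizationMonoid A] : UniqueFactorizationMonoid A[T;T⁻¹] :=
  UniqueFactorizationMonoid.of_isLocalization (Submonoid.powers (X : A[X])) A[T;T⁻¹]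

/-- descent of factoriality from the Laurent polynomial ring -/
theorem ufm_of_ufm_laurent [IsNoetherianRing A] (h : UniqueFactorizationMonoid A[T;T⁻¹]) :
    UniqueFactorizationMonoid A := by
  rw [UniqueFactorizationMonoid.iff_exists_prime_mem_of_isPrime]
  intro 𝔭 h𝔭0 h𝔭
  obtain ⟨a, ha𝔭, ha0⟩ := Submodule.exists_mem_ne_zero_of_ne_bot h𝔭0
  haveI := lext_isPrime 𝔭
  have haL : (AddMonoidAlgebra.single 0 a : A[T;T⁻¹]) ∈ lext 𝔭 := by
    have := (lext_comap 𝔭).ge ha𝔭
    exact this
  have haL0 : (AddMonoidAlgebra.single 0 a : A[T;T⁻¹]) ≠ 0 := by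
    rw [Ne, AddMonoidAlgebra.single_eq_zero]; exact ha0
  obtain ⟨fs, hfs, ⟨v, hv⟩⟩ := UniqueFactorizationMonoid.exists_prime_factors _ haL0
  have hprod : fs.prod ∈ lext 𝔭 := by
    have h1 : fs.prod * ↑v ∈ lext 𝔭 := by rw [hv]; exact haL
    rcases (lext_isPrime 𝔭).mem_or_mem h1 with h2 | h2
    · exact h2
    · exact absurd (Ideal.eq_top_of_isUnit_mem _ h2 v.isUnit) (lext_isPrime 𝔭).ne_top
  obtain ⟨f, hf, hfmem⟩ := (Ideal.IsPrime.multiset_prod_mem_iff_exists_mem (lext_isPrime 𝔭) fs).mp
    hprod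
  have hfdvd : f ∣ (AddMonoidAlgebra.single 0 a : A[T;T⁻¹]) := by
    rw [← hv]
    exact (Multiset.dvd_prod hf).mul_right _
  obtain ⟨g, hg⟩ := hfdvd
  obtain ⟨i, j, c, d, hfc, -, -, -⟩ := eq_single_of_mul_eq_single ha0 hg.symm
  have hcp : Prime c := prime_of_prime_single (hfc ▸ hfs f hf)
  refine ⟨c, ?_, hcp⟩
  have h1 : (AddMonoidAlgebra.single 0 c : A[T;T⁻¹]) ∈ lext 𝔭 := by
    have h2 : (AddMonoidAlgebra.single 0 c : A[T;T⁻¹]) =
        AddMonoidAlgebra.single (-i) 1 * AddMonoidAlgebra.single i c := by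
      rw [AddMonoidAlgebra.single_mul_single, neg_add_cancel, one_mul]
    rw [h2, ← hfc]
    exact Ideal.mul_mem_left _ _ hfmem
  have := (lext_comap 𝔭).le (show c ∈ (lext 𝔭).comap (algebraMap A A[T;T⁻¹]) from h1)
  exact this

end Laurent

end Groth.Agent.Lib.Helper6.FiltBl
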