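import Mathlib
import Groth.Agent.Lib.Helper6.FiltBl.FBk

set_option autoImplicit false
set_option linter.unusedSectionVars false
set_option linter.unusedVariables false
set_option linter.unusedSimpArgs false
set_option linter.style.haveILetI false
set_option maxHeartbeats 400000

/-!
# The extended Rees algebra is factorial iff `A` is and the associated graded ring is a domain
-/

open Polynomial LaurentPolynomial DirectSum

universe u

noncomputable section

namespace Groth.Agent.Lib.Helper6.FiltBl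

open IsLocalRing

variable {A : Type u} [CommRing A] [IsDomain A] [IsNoetherianRing A] [IsLocalRing A]
  (𝓕 : FiltBl.IdealFiltration A)

theorem u_ne_zero : 𝓕.u ≠ 0 := by
  intro h
  have h1 := congrArg (fun x : 𝓕.extRees => (x : A[T;T⁻¹]).coeff (-1)) h
  simp only [coe_u, LaurentPolynomial.T_apply, if_true] at h1
  exact one_ne_zero h1

theorem u_irreducible (hF1 : 𝓕.F 1 ≤ maximalIdeal A) : Irreducible 𝓕.u := by
  have hnu : ∀ (i : ℤ) (b : A), 1 ≤ i → b ∈ 𝓕.F i.toNat → ¬ IsUnit b := by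
    intro i b hi hb hu
    have h1 : b ∈ maximalIdeal A := hF1 (𝓕.antitone (by omega) hb)
    exact (mem_maximalIdeal b).mp h1 hu
  refine ⟨?_, ?_⟩
  · rintro ⟨v, hv⟩
    have h1 : ((↑v⁻¹ * 𝓕.u : 𝓕.extRees) : A[T;T⁻¹]).coeff 0 = 1 := by
      rw [← hv, Units.inv_mul]
      change (AddMonoidAlgebra.single (0 : ℤ) (1 : A)).coeff 0 = 1
      rw [AddMonoidAlgebra.coeff_single, Finsupp.single_eq_same]
    rw [coeff_mul_u, zero_add] at h1
    have h2 := coeff_mem 𝓕 (↑v⁻¹ : 𝓕.extRees) 1
    rw [h1] at h2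
    exact hnu 1 1 le_rfl h2 isUnit_one
  · intro x y hxy
    have h1 : (x : A[T;T⁻¹]) * (y : A[T;T⁻¹]) = AddMonoidAlgebra.single (-1) 1 := by
      rw [← coe_mul, ← hxy]; rfl
    obtain ⟨i, j, b, c, hxb, hyc, hij, hbc⟩ := eq_single_of_mul_eq_single one_ne_zero h1
    have hbu : IsUnit b := IsUnit.of_mul_eq_one c hbc
    have hcu : IsUnit c := IsUnit.of_mul_eq_one b (by rw [mul_comm]; exact hbc)
    have hbm : b ∈ 𝓕.F i.toNat := by
      have := coeff_mem 𝓕 x i
      rwa [hxb, AddMonoidAlgebra.coeff_single, Finsupp.single_eq_same] at this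
    have hcm : c ∈ 𝓕.F j.toNat := by
      have := coeff_mem 𝓕 y j
      rwa [hyc, AddMonoidAlgebra.coeff_single, Finsupp.single_eq_same] at this
    have hi : i ≤ 0 := by
      by_contra hi
      exact hnu i b (by omega) hbm hbu
    have hj : j ≤ 0 := by
      by_contra hj
      exact hnu j c (by omega) hcm hcu
    have h0 : i = 0 ∨ j = 0 := by omega
    rcases h0 with h0 | h0
    · left
      subst h0
      have : x = mono 𝓕 0 b (mem_F_zero 𝓕 b) := Subtype.ext hxb
      rw [this]
      exact mono_zero_isUnit 𝓕 b hbu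
    · right
      subst h0
      have : y = mono 𝓕 0 c (mem_F_zero 𝓕 c) := Subtype.ext hyc
      rw [this]
      exact mono_zero_isUnit 𝓕 c hcu

theorem ufm_extRees_iff [hD : IsDomain 𝓕.extRees] (hsep : ⨅ n, 𝓕.F n = ⊥)
    (hfg : Algebra.FiniteType A 𝓕.rees) :
    UniqueFactorizationMonoid 𝓕.extRees ↔ (UniqueFactorizationMonoid A ∧ IsDomain 𝓕.Gr) := by
  haveI : IsNoetherianRing 𝓕.extRees := isNoetherianRing_extRees 𝓕 hfg
  constructor
  · intro h
    have hL : UniqueFactorizationMonoid A[T;T⁻¹] :=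
      UniqueFactorizationMonoid.of_isLocalization (Submonoid.powers 𝓕.u) A[T;T⁻¹]
    have hprime : Prime 𝓕.u :=
      UniqueFactorizationMonoid.irreducible_iff_prime.mp
        (u_irreducible 𝓕 (F1_le_maximalIdeal 𝓕 hsep))
    refine ⟨ufm_of_ufm_laurent hL, ?_⟩
    exact (Ideal.Quotient.isDomain_iff_prime _).mpr
      ((Ideal.span_singleton_prime (u_ne_zero 𝓕)).mpr hprime)
  · rintro ⟨hA, hG⟩
    have hprime : Prime 𝓕.u :=
      (Ideal.span_singleton_prime (u_ne_zero 𝓕)).mp
        ((Ideal.Quotient.isDomain_iff_prime (Ideal.span {𝓕.u})).mp hG)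
    exact (UniqueFactorizationMonoid.iff_of_isLocalizationAway_of_prime hprime A[T;T⁻¹]).mpr
      ufm_laurent

end Groth.Agent.Lib.Helper6.FiltBl
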