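import Mathlib
import Groth.Agent.Lib.Helper9.GrLC.Van
import Groth.Agent.Lib.Helper8.LC46

set_option autoImplicit false
set_option linter.unusedSectionVars false
set_option linter.unusedVariables false
set_option linter.unusedSimpArgs false
set_option linter.style.haveILetI false
set_option linter.overlappingInstances false
set_option maxHeartbeats 800000

/-!
# Graded local cohomology: generic lemmas used for the extended Rees algebra (helper6, S19481)

* `subsingleton_of_LCgr_eq_bot`: a local cohomology module all of whose graded pieces vanish is zero.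
* `subsingleton_H_of_quotient`: if `x` is homogeneous of negative degree and regular on the finite graded
  module `X`, and `H^i_a(X/xX) = 0` (`a` the ideal of positive-degree elements), then `H^i_a(X) = 0`.
* `one_sub_smul_eq_zero`: `1 - x` acts injectively on `H^i_a(X)` for `x` homogeneous of negative degree.
* `subsingleton_H_of_ses`, `subsingleton_H_map_of_quotient`, `subsingleton_H_of_map`: ungraded glue.
-/

universe u

open CategoryTheory DirectSum

namespace Groth.Agent.Lib.Helper6.FiltBl.GenLC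

open Groth.Agent.Helper9.GrLCLib Groth.Agent.Helper9.GrLCLib.Van Groth.Agent.Helper8.LC

section Graded

variable {R : Type u} [CommRing R] [IsNoetherianRing R] (𝒜 : ℤ → AddSubgroup R) [GradedRing 𝒜]

/-- a local cohomology module all of whose graded pieces vanish is zero -/
theorem eq_zero_of_LCgr_eq_bot (X : GrLC.GMod.{u} 𝒜) (a : HomogeneousIdeal 𝒜) (i : ℕ)
    (h : ∀ n, LCgr 𝒜 X.gr a.toIdeal i n = ⊥) (v : LocCoh.H a.toIdeal i X.carrier) : v = 0 := by
  classical
  let Y := LCGMod 𝒜 X.gr a i
  have hsum := DirectSum.sum_support_decompose Y.gr (show Y.carrier from v)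
  have hz : ∀ n : ℤ, ((DirectSum.decompose Y.gr (show Y.carrier from v) n : Y.carrier)) = 0 := by
    intro n
    have h1 : ((DirectSum.decompose Y.gr (show Y.carrier from v) n : Y.carrier)) ∈ Y.gr n :=
      (DirectSum.decompose Y.gr (show Y.carrier from v) n).2
    have h2 := (mem_LCGMod_gr 𝒜 X.gr a i n _).mp h1
    rw [h n] at h2
    exact AddSubgroup.mem_bot.mp h2
  have h0 : (show Y.carrier from v) = 0 := by
    rw [← hsum]
    exact Finset.sum_eq_zero (fun n _ => hz n)
  exact h0

theorem subsingleton_of_LCgr_eq_bot (X : GrLC.GMod.{u} 𝒜) (a : HomogeneousIdeal 𝒜) (i : ℕ)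
    (h : ∀ n, LCgr 𝒜 X.gr a.toIdeal i n = ⊥) : Subsingleton (LocCoh.H a.toIdeal i X.carrier) :=
  ⟨fun v w => by rw [eq_zero_of_LCgr_eq_bot 𝒜 X a i h v, eq_zero_of_LCgr_eq_bot 𝒜 X a i h w]⟩

/-- if `x` is homogeneous of negative degree and regular on the finite graded module `X`, and
`H^i_a(X/xX) = 0` for the ideal `a` generated by the elements of positive degree, then `H^i_a(X) = 0` -/
theorem subsingleton_H_of_quotient (X : GrLC.GMod.{u} 𝒜) [Module.Finite R X.carrier] (d : ℤ)
    (hd : d < 0) (x : R) (hx : x ∈ 𝒜 d) (hreg : Function.Injective (mulMap 𝒜 X d x))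
    (a : HomogeneousIdeal 𝒜)
    (ha : a.toIdeal = Ideal.span (⋃ n ∈ Set.Ioi (0 : ℤ), (𝒜 n : Set R))) (i : ℕ)
    (hQ : Subsingleton (LocCoh.H a.toIdeal i (Qx 𝒜 X d x hx).carrier)) :
    Subsingleton (LocCoh.H a.toIdeal i X.carrier) := by
  apply subsingleton_of_LCgr_eq_bot
  obtain ⟨s, hs⟩ := VanZ.vanP 𝒜 a ha i X
  have step : ∀ n, LCgr 𝒜 X.gr a.toIdeal i (n - d) = ⊥ → LCgr 𝒜 X.gr a.toIdeal i n = ⊥ := by
    intro n hn
    rw [eq_bot_iff]
    intro v hv
    have h0 : ((localCohomology a.toIdeal i).map (ModuleCat.ofHom (qxMap 𝒜 X d x hx))) v = 0 :=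
      Subsingleton.elim _ _
    obtain ⟨w, hw, hwv⟩ := exists_LCgr_of_map_g_eq_zero 𝒜 (shiftGMod X d).gr X.gr
      (mulMap 𝒜 X d x) (qxMap 𝒜 X d x hx) (qxMap_comp_mulMap 𝒜 X d x hx)
      (mulSES_shortExact 𝒜 X d x hx hreg) (isGrHom_mulMap 𝒜 X d x hx) a i n v hv h0
    have hw' := (mem_LCgr_shift 𝒜 X d a.toIdeal i n w).mp hw
    rw [hn] at hw'
    have hw0 : w = 0 := AddSubgroup.mem_bot.mp hw'
    rw [← hwv, hw0, map_zero]
    exact AddSubgroup.mem_bot.mpr rfl
  have main : ∀ k : ℕ, ∀ n : ℤ, s ≤ n + k * (-d) → LCgr 𝒜 X.gr a.toIdeal i n = ⊥ := by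
    intro k
    induction k with
    | zero => intro n hn; exact hs n (by simpa using hn)
    | succ k ih =>
      intro n hn
      apply step
      apply ih
      push_cast at hn ⊢
      linarith
  intro n
  apply main (s - n).toNat n
  have h1 : (s - n) ≤ ((s - n).toNat : ℤ) := Int.self_le_toNat _
  have h2 : (0 : ℤ) ≤ ((s - n).toNat : ℤ) := Int.natCast_nonneg _
  have h3 : (0 : ℤ) ≤ -d - 1 := by omega
  nlinarith [mul_nonneg h2 h3]

/-- `1 - x` acts injectively on `H^i_a(X)` when `x` is homogeneous of negative degree -/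
theorem one_sub_smul_eq_zero (X : GrLC.GMod.{u} 𝒜) (d : ℤ) (hd : d < 0) (x : R) (hx : x ∈ 𝒜 d)
    (a : HomogeneousIdeal 𝒜) (i : ℕ) (v : LocCoh.H a.toIdeal i X.carrier)
    (hv : (1 - x) • v = 0) : v = 0 := by
  classical
  let Y := LCGMod 𝒜 X.gr a i
  have hxv : x • (show Y.carrier from v) = (show Y.carrier from v) := by
    have h1 : (1 - x) • v = v - x • v := by rw [sub_smul, one_smul]
    rw [h1, sub_eq_zero] at hv
    exact hv.symm
  have hcomp : ∀ n : ℤ, proj Y.gr (d + n) (show Y.carrier from v) =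
      x • proj Y.gr n (show Y.carrier from v) := by
    intro n
    have h1 := proj_smul_of_mem 𝒜 Y.gr hx (show Y.carrier from v) n
    rw [hxv] at h1
    exact h1
  obtain ⟨N, hN⟩ : ∃ N : ℤ, ∀ n, N ≤ n → proj Y.gr n (show Y.carrier from v) = 0 := by
    obtain ⟨N, hN⟩ := Finset.exists_le ((DirectSum.decompose Y.gr (show Y.carrier from v)).support)
    refine ⟨N + 1, fun n hn => ?_⟩
    by_contra h
    have hmem : n ∈ (DirectSum.decompose Y.gr (show Y.carrier from v)).support := by
      rw [DFinsupp.mem_support_iff]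
      intro h0
      apply h
      rw [proj_apply, h0]
      rfl
    have := hN n hmem
    omega
  have main : ∀ k : ℕ, ∀ n : ℤ, N ≤ n + k * (-d) → proj Y.gr n (show Y.carrier from v) = 0 := by
    intro k
    induction k with
    | zero => intro n hn; exact hN n (by simpa using hn)
    | succ k ih =>
      intro n hn
      have h1 := hcomp (n - d)
      rw [add_sub_cancel] at h1
      rw [h1, ih (n - d) (by push_cast at hn ⊢; linarith), smul_zero]
  have hall : ∀ n : ℤ, proj Y.gr n (show Y.carrier from v) = 0 := by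
    intro n
    apply main (N - n).toNat n
    have h1 : (N - n) ≤ ((N - n).toNat : ℤ) := Int.self_le_toNat _
    have h2 : (0 : ℤ) ≤ ((N - n).toNat : ℤ) := Int.natCast_nonneg _
    have h3 : (0 : ℤ) ≤ -d - 1 := by omega
    nlinarith [mul_nonneg h2 h3]
  have hsum := DirectSum.sum_support_decompose Y.gr (show Y.carrier from v)
  have h0 : (show Y.carrier from v) = 0 := by
    rw [← hsum]
    exact Finset.sum_eq_zero (fun n _ => hall n)
  exact h0

end Graded

section Ungraded

variable {R : Type u} [CommRing R]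

/-- transport of vanishing of local cohomology along a linear equivalence -/
theorem subsingleton_H_of_linearEquiv (J : Ideal R) (i : ℕ) {M N : Type u} [AddCommGroup M]
    [Module R M] [AddCommGroup N] [Module R N] (e : M ≃ₗ[R] N)
    (h : Subsingleton (LocCoh.H J i M)) : Subsingleton (LocCoh.H J i N) := by
  let φ := (localCohomology J i).mapIso e.toModuleIso
  exact (φ.symm.toLinearEquiv.toEquiv).subsingleton

/-- if `0 → M --y--> M → N → 0` is exact, `H^i_J(M) = 0` and `y` acts injectively on
`H^{i+1}_J(M)`, then `H^i_J(N) = 0` -/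
theorem subsingleton_H_of_ses (J : Ideal R) (i : ℕ) {M N : Type u} [AddCommGroup M] [Module R M]
    [AddCommGroup N] [Module R N] (y : R) (p : M →ₗ[R] N) (hp : Function.Surjective p)
    (hy : Function.Injective (y • (LinearMap.id : M →ₗ[R] M)))
    (hex : LinearMap.ker p = LinearMap.range (y • (LinearMap.id : M →ₗ[R] M)))
    (h0 : Subsingleton (LocCoh.H J i M))
    (hinj : ∀ v : LocCoh.H J (i + 1) M, y • v = 0 → v = 0) :
    Subsingleton (LocCoh.H J i N) := by
  have hcomp : p ∘ₗ (y • (LinearMap.id : M →ₗ[R] M)) = 0 := by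
    apply LinearMap.ext
    intro m
    have : (y • (LinearMap.id : M →ₗ[R] M)) m ∈ LinearMap.ker p := by rw [hex]; exact ⟨m, rfl⟩
    exact this
  have hS := sesOf_shortExact (y • (LinearMap.id : M →ₗ[R] M)) p hcomp hy hp hex
  suffices hz : ∀ w : LocCoh.H J i N, w = 0 from ⟨fun a b => by rw [hz a, hz b]⟩
  intro w
  have h1 : ((localCohomology J (i + 1)).map
      (sesOf (y • (LinearMap.id : M →ₗ[R] M)) p hcomp).f) (δ J i hS w) = 0 :=
    (exact_δ_f J i hS _).mpr ⟨w, rfl⟩
  have h2 : (sesOf (y • (LinearMap.id : M →ₗ[R] M)) p hcomp).f = y • 𝟙 (ModuleCat.of R M) := rfl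
  rw [h2, map_smul_id] at h1
  have h3 := hinj _ h1
  obtain ⟨w', hw'⟩ := (exact_g_δ J i hS w).mp h3
  rw [← hw', Subsingleton.elim w' 0, map_zero]

end Ungraded

section Base

variable {E B : Type u} [CommRing E] [CommRing B] [Algebra E B] [IsNoetherianRing E]
  [IsNoetherianRing B]

/-- independence of the base: from the ring `B` down to `E` -/
theorem subsingleton_H_of_map (J : Ideal E) (i : ℕ)
    (h : Subsingleton (LocCoh.H (J.map (algebraMap E B)) i B)) : Subsingleton (LocCoh.H J i B) := by
  obtain ⟨φ, -⟩ := exists_semilinear_equiv (R := E) (R' := B) J i B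
  exact φ.symm.toEquiv.subsingleton

/-- independence of the base: from `E` up to the ring `B` -/
theorem subsingleton_H_map (J : Ideal E) (i : ℕ)
    (h : Subsingleton (LocCoh.H J i B)) : Subsingleton (LocCoh.H (J.map (algebraMap E B)) i B) := by
  obtain ⟨φ, -⟩ := exists_semilinear_equiv (R := E) (R' := B) J i B
  exact φ.toEquiv.subsingleton

/-- if `B = E/(y)` with `y` regular, `H^i_J(E) = 0` and `y` acts injectively on `H^{i+1}_J(E)`, then
`H^i_{JB}(B) = 0` -/
theorem subsingleton_H_map_of_quotient (J : Ideal E) (i : ℕ) (y : E)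
    (hsurj : Function.Surjective (algebraMap E B))
    (hker : RingHom.ker (algebraMap E B) = Ideal.span {y})
    (hyreg : IsSMulRegular E y)
    (h0 : Subsingleton (LocCoh.H J i E))
    (hinj : ∀ v : LocCoh.H J (i + 1) E, y • v = 0 → v = 0) :
    Subsingleton (LocCoh.H (J.map (algebraMap E B)) i B) := by
  apply subsingleton_H_map
  refine subsingleton_H_of_ses J i y (Algebra.linearMap E B) hsurj ?_ ?_ h0 hinj
  · intro m m' hmm
    exact hyreg hmm
  · ext m
    rw [LinearMap.mem_ker, Algebra.linearMap_apply, ← RingHom.mem_ker, hker,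
      Ideal.mem_span_singleton']
    constructor
    · rintro ⟨c, rfl⟩
      exact ⟨c, by simp [mul_comm]⟩
    · rintro ⟨c, rfl⟩
      exact ⟨c, by simp [mul_comm]⟩

end Base

end Groth.Agent.Lib.Helper6.FiltBl.GenLC
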