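import Mathlib
import Groth.Agent.Lib.Helper6.FiltBl.FBm
import Groth.Agent.Lib.Helper6.FiltBl.FBe

set_option autoImplicit false
set_option linter.unusedSectionVars false
set_option linter.unusedVariables false
set_option linter.unusedSimpArgs false
set_option linter.style.haveILetI false
set_option linter.overlappingInstances false
set_option maxHeartbeats 800000
set_option synthInstance.maxHeartbeats 400000
set_option maxSynthPendingDepth 3

/-!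
# Local cohomology of `A` along `F¹` from that of the associated graded ring (helper6, S19481)
-/

open LaurentPolynomial DirectSum

universe u

noncomputable section

namespace Groth.Agent.Lib.Helper6.FiltBl

variable {A : Type u} [CommRing A] (𝓕 : FiltBl.IdealFiltration A)

attribute [local instance] gradedRing

open Groth.Agent.Helper9.GrLCLib Groth.Agent.Helper9.GrLCLib.Van GenLC

/-- the ideal generated by the homogeneous elements of positive degree -/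
def posIdeal : HomogeneousIdeal (gr 𝓕) :=
  ⟨Ideal.span (⋃ n ∈ Set.Ioi (0 : ℤ), (gr 𝓕 n : Set 𝓕.extRees)), Ideal.homogeneous_span _ _ (by
    intro x hx
    obtain ⟨n, -, hn⟩ := Set.mem_iUnion₂.mp hx
    exact ⟨n, hn⟩)⟩

theorem posIdeal_toIdeal : (posIdeal 𝓕).toIdeal =
    Ideal.span (⋃ n ∈ Set.Ioi (0 : ℤ), (gr 𝓕 n : Set 𝓕.extRees)) := rfl

/-- the generating set used in the statement -/
theorem span_pos_eq :
    Ideal.span {x : 𝓕.extRees | ∃ n : ℤ, 0 < n ∧ ∃ a : A, (x : A[T;T⁻¹]) = C a * T n} =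
      (posIdeal 𝓕).toIdeal := by
  rw [posIdeal_toIdeal]
  apply congrArg
  apply Set.ext
  intro x
  constructor
  · rintro ⟨n, hn, a, hxa⟩
    refine Set.mem_biUnion (show n ∈ Set.Ioi (0 : ℤ) from hn) ?_
    show x ∈ gr 𝓕 n
    intro m hm
    rw [hxa, ← LaurentPolynomial.single_eq_C_mul_T, AddMonoidAlgebra.coeff_single,
      Finsupp.single_apply, if_neg (Ne.symm hm)]
  · intro hx
    obtain ⟨n, hn, hxn⟩ := Set.mem_iUnion₂.mp hx
    refine ⟨n, hn, (x : A[T;T⁻¹]).coeff n, ?_⟩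
    rw [← LaurentPolynomial.single_eq_C_mul_T]
    exact coe_eq_single_of_mem_gr 𝓕 hxn

theorem map_posIdeal_ev : (posIdeal 𝓕).toIdeal.map (ev 𝓕) = 𝓕.F 1 := by
  rw [posIdeal_toIdeal, Ideal.map_span]
  apply le_antisymm
  · rw [Ideal.span_le]
    rintro _ ⟨x, hx, rfl⟩
    obtain ⟨n, hn, hxn⟩ := Set.mem_iUnion₂.mp hx
    have hn' : (0 : ℤ) < n := hn
    have h1 := congrArg (ev 𝓕) (eq_mono_of_mem_gr 𝓕 hxn)
    rw [ev_mono] at h1
    rw [SetLike.mem_coe, h1]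
    exact 𝓕.antitone (show 1 ≤ n.toNat by omega) (coeff_mem 𝓕 x n)
  · intro a ha
    have ha' : a ∈ 𝓕.F (1 : ℤ).toNat := by simpa using ha
    have h1 : ev 𝓕 (mono 𝓕 1 a ha') = a := ev_mono 𝓕 1 a ha'
    rw [← h1]
    apply Ideal.subset_span
    exact ⟨mono 𝓕 1 a ha', Set.mem_biUnion (show (1 : ℤ) ∈ Set.Ioi 0 by simp)
      (mono_mem_gr 𝓕 1 a ha'), rfl⟩

/-- the extended Rees algebra as a graded module over itself -/
abbrev XE : GrLC.GMod.{u} (gr 𝓕) := GrLC.GMod.of (gr 𝓕) 𝓕.extRees (gr 𝓕)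

theorem mulMap_u_injective : Function.Injective (mulMap (gr 𝓕) (XE 𝓕) (-1) 𝓕.u) := by
  intro m m' h
  exact u_isSMulRegular 𝓕 h

theorem range_mulMap_u :
    (Ideal.span {𝓕.u} : Submodule 𝓕.extRees 𝓕.extRees) =
      LinearMap.range (mulMap (gr 𝓕) (XE 𝓕) (-1) 𝓕.u) := by
  apply Submodule.ext
  intro m
  constructor
  · intro hm
    obtain ⟨c, hc⟩ := Ideal.mem_span_singleton'.mp hm
    exact ⟨c, by rw [← hc, mul_comm]; rfl⟩
  · rintro ⟨c, rfl⟩
    exact Ideal.mem_span_singleton'.mpr ⟨c, by rw [mul_comm]; rfl⟩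

section Main

variable [IsNoetherianRing A] [IsNoetherianRing 𝓕.extRees]

theorem subsingleton_H_Qx (q : ℕ)
    (hG : Subsingleton (LocCoh.H
      ((Ideal.span {x : 𝓕.extRees | ∃ n : ℤ, 0 < n ∧ ∃ a : A, (x : A[T;T⁻¹]) = C a * T n}).map
        (Ideal.Quotient.mk (Ideal.span {𝓕.u}))) q 𝓕.Gr)) :
    Subsingleton (LocCoh.H (posIdeal 𝓕).toIdeal q
      (Qx (gr 𝓕) (XE 𝓕) (-1) 𝓕.u (u_mem_gr 𝓕)).carrier) := by
  rw [span_pos_eq] at hG
  have h1 : Subsingleton (LocCoh.H (posIdeal 𝓕).toIdeal q 𝓕.Gr) :=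
    subsingleton_H_of_map (E := 𝓕.extRees) (B := 𝓕.Gr) _ q hG
  exact subsingleton_H_of_linearEquiv _ q
    (Submodule.quotEquivOfEq _ _ (range_mulMap_u 𝓕)) h1

theorem main' (q : ℕ)
    (hG : Subsingleton (LocCoh.H
      ((Ideal.span {x : 𝓕.extRees | ∃ n : ℤ, 0 < n ∧ ∃ a : A, (x : A[T;T⁻¹]) = C a * T n}).map
        (Ideal.Quotient.mk (Ideal.span {𝓕.u}))) q 𝓕.Gr)) :
    Subsingleton (LocCoh.H (𝓕.F 1) q A) := by
  have hQ := subsingleton_H_Qx 𝓕 q hG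
  haveI : Module.Finite 𝓕.extRees (XE 𝓕).carrier := Module.Finite.self 𝓕.extRees
  have h0 : Subsingleton (LocCoh.H (posIdeal 𝓕).toIdeal q 𝓕.extRees) :=
    subsingleton_H_of_quotient (gr 𝓕) (XE 𝓕) (-1) (by norm_num) 𝓕.u (u_mem_gr 𝓕)
      (mulMap_u_injective 𝓕) (posIdeal 𝓕) rfl q hQ
  have hinj : ∀ v : LocCoh.H (posIdeal 𝓕).toIdeal (q + 1) 𝓕.extRees,
      (1 - 𝓕.u) • v = 0 → v = 0 :=
    fun v hv => one_sub_smul_eq_zero (gr 𝓕) (XE 𝓕) (-1) (by norm_num) 𝓕.u (u_mem_gr 𝓕)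
      (posIdeal 𝓕) (q + 1) v hv
  letI : Algebra 𝓕.extRees A := (ev 𝓕).toAlgebra
  have h1 := subsingleton_H_map_of_quotient (E := 𝓕.extRees) (B := A) (posIdeal 𝓕).toIdeal q
    (1 - 𝓕.u) (ev_surjective 𝓕) (ker_ev 𝓕) (one_sub_u_isSMulRegular 𝓕) h0 hinj
  have h2 : (posIdeal 𝓕).toIdeal.map (algebraMap 𝓕.extRees A) = 𝓕.F 1 := map_posIdeal_ev 𝓕
  rw [h2] at h1
  exact h1

omit [IsNoetherianRing 𝓕.extRees] in
theorem main (hfg : Algebra.FiniteType A 𝓕.rees) (q : ℕ)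
    (hG : Subsingleton (LocCoh.H
      ((Ideal.span {x : 𝓕.extRees | ∃ n : ℤ, 0 < n ∧ ∃ a : A, (x : A[T;T⁻¹]) = C a * T n}).map
        (Ideal.Quotient.mk (Ideal.span {𝓕.u}))) q 𝓕.Gr)) :
    Subsingleton (LocCoh.H (𝓕.F 1) q A) := by
  haveI := isNoetherianRing_extRees 𝓕 hfg
  exact main' 𝓕 q hG

end Main

end Groth.Agent.Lib.Helper6.FiltBl
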