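import Mathlib
import Groth.Agent.Lib.Helper6.FiltBl.FBh
import Groth.Agent.Lib.Helper8.Serre1

set_option autoImplicit false
set_option linter.unusedSectionVars false
set_option linter.unusedVariables false
set_option linter.unusedSimpArgs false
set_option linter.style.haveILetI false
set_option linter.overlappingInstances false
set_option maxHeartbeats 800000

/-!
# The Rees algebra inside the extended Rees algebra: monomials, the range of the inclusion, and
the comparison of local rings away from the irrelevant ideal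
-/

open Polynomial LaurentPolynomial DirectSum

universe u

noncomputable section

namespace Groth.Agent.Lib.Helper6.FiltBl

open LocCoh IsLocalRing Groth.Agent.Helper8.Depth

variable {A : Type u} [CommRing A] (𝓕 : FiltBl.IdealFiltration A)

section Rees

/-- the homogeneous element `a X^n` of the Rees algebra -/
def rmono (n : ℕ) (a : A) (ha : a ∈ 𝓕.F n) : 𝓕.rees :=
  ⟨Polynomial.monomial n a, monomial_mem_rees 𝓕 n a ha⟩

@[simp] theorem coe_rmono (n : ℕ) (a : A) (ha : a ∈ 𝓕.F n) :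
    ((rmono 𝓕 n a ha : 𝓕.rees) : A[X]) = Polynomial.monomial n a := rfl

theorem reesToExt_rmono (k : ℕ) (n : ℤ) (hn : n = k) (a : A) (ha : a ∈ 𝓕.F k)
    (ha' : a ∈ 𝓕.F n.toNat) : reesToExt 𝓕 (rmono 𝓕 k a ha) = mono 𝓕 n a ha' := by
  subst hn
  apply Subtype.ext
  rw [coe_reesToExt, coe_rmono, coe_mono, Polynomial.toLaurent_C_mul_T,
    ← LaurentPolynomial.single_eq_C_mul_T]

theorem reesToExt_injective : Function.Injective (reesToExt 𝓕) := by
  intro x y h
  apply Subtype.ext
  have h1 : ((reesToExt 𝓕 x : 𝓕.extRees) : A[T;T⁻¹]) =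
      ((reesToExt 𝓕 y : 𝓕.extRees) : A[T;T⁻¹]) := congrArg Subtype.val h
  rw [coe_reesToExt, coe_reesToExt] at h1
  exact Polynomial.toLaurent_injective h1

theorem coe_algebraMap_rees (a : A) :
    ((algebraMap A 𝓕.rees a : 𝓕.rees) : A[X]) = Polynomial.C a := rfl

theorem reesToExt_algebraMap (a : A) :
    reesToExt 𝓕 (algebraMap A 𝓕.rees a) = algebraMap A 𝓕.extRees a := by
  rw [algebraMap_eq_mono]
  apply Subtype.ext
  rw [coe_reesToExt, coe_mono, coe_algebraMap_rees, Polynomial.toLaurent_C]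
  rfl

theorem rmono_zero (a : A) (ha : a ∈ 𝓕.F 0) : rmono 𝓕 0 a ha = algebraMap A 𝓕.rees a := by
  apply Subtype.ext
  rw [coe_rmono, coe_algebraMap_rees, Polynomial.monomial_zero_left]

theorem rees_eq_sum (r : 𝓕.rees) :
    r = ∑ n ∈ (r : A[X]).support, rmono 𝓕 n ((r : A[X]).coeff n) (r.2 n) := by
  apply Subtype.ext
  rw [AddSubmonoidClass.coe_finsetSum]
  simp only [coe_rmono]
  exact (r : A[X]).as_sum_support

theorem coeff_reesToExt (r : 𝓕.rees) (n : ℤ) :
    ((reesToExt 𝓕 r : 𝓕.extRees) : A[T;T⁻¹]).coeff n =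
      if 0 ≤ n then (r : A[X]).coeff n.toNat else 0 := by
  rw [coe_reesToExt, toLaurent_coeff]

theorem mem_range_reesToExt (x : 𝓕.extRees)
    (hx : ∀ n : ℤ, n < 0 → (x : A[T;T⁻¹]).coeff n = 0) : x ∈ (reesToExt 𝓕).range := by
  rw [eq_sum_mono 𝓕 x]
  refine Subring.sum_mem _ fun n hn => ?_
  have hn0 : 0 ≤ n := by
    by_contra hneg
    rw [Finsupp.mem_support_iff] at hn
    exact hn (hx n (by omega))
  exact RingHom.mem_range.mpr ⟨rmono 𝓕 n.toNat ((x : A[T;T⁻¹]).coeff n) (coeff_mem 𝓕 x n),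
    reesToExt_rmono 𝓕 n.toNat n (Int.toNat_of_nonneg hn0).symm _ _ _⟩

/-- `u · b T^(k+1) = b T^k` -/
theorem u_mul_reesToExt_rmono (k : ℕ) (b : A) (hb : b ∈ 𝓕.F (k + 1)) :
    𝓕.u * reesToExt 𝓕 (rmono 𝓕 (k + 1) b hb) =
      reesToExt 𝓕 (rmono 𝓕 k b (𝓕.antitone (Nat.le_succ k) hb)) := by
  have h1 : b ∈ 𝓕.F ((k : ℤ) + 1).toNat := by
    have : ((k : ℤ) + 1).toNat = k + 1 := by omega
    rw [this]; exact hb
  have h2 : b ∈ 𝓕.F ((k : ℤ)).toNat := by
    rw [Int.toNat_natCast]; exact 𝓕.antitone (Nat.le_succ k) hb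
  rw [reesToExt_rmono 𝓕 (k + 1) ((k : ℤ) + 1) (by push_cast; ring) b hb h1,
    reesToExt_rmono 𝓕 k (k : ℤ) rfl b _ h2]
  have := u_pow_mul_mono 𝓕 1 (k : ℤ) ((k : ℤ) + 1) (by push_cast; ring) b h1 h2
  rwa [pow_one] at this

/-- multiplying by a high power of a homogeneous element of positive degree lands in the Rees
algebra -/
theorem exists_mul_pow_mem_range (k : ℕ) (b : A) (hb : b ∈ 𝓕.F (k + 1)) (x : 𝓕.extRees) :
    ∃ (m : ℕ) (r : 𝓕.rees), x * reesToExt 𝓕 (rmono 𝓕 (k + 1) b hb) ^ m = reesToExt 𝓕 r := by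
  set f := reesToExt 𝓕 (rmono 𝓕 (k + 1) b hb) with hf
  set g := rmono 𝓕 k b (𝓕.antitone (Nat.le_succ k) hb) with hg
  have hug : 𝓕.u * f = reesToExt 𝓕 g := u_mul_reesToExt_rmono 𝓕 k b hb
  -- stable version of the claim
  have key : ∀ x : 𝓕.extRees, ∃ m : ℕ, ∀ m', m ≤ m' → x * f ^ m' ∈ (reesToExt 𝓕).range := by
    intro x
    rw [eq_sum_mono 𝓕 x]
    refine Finset.sum_induction _
      (fun y : 𝓕.extRees => ∃ m : ℕ, ∀ m', m ≤ m' → y * f ^ m' ∈ (reesToExt 𝓕).range)
      ?_ ?_ ?_
    · rintro y z ⟨m1, h1⟩ ⟨m2, h2⟩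
      refine ⟨max m1 m2, fun m' hm' => ?_⟩
      rw [add_mul]
      exact Subring.add_mem _ (h1 m' (le_trans (le_max_left _ _) hm'))
        (h2 m' (le_trans (le_max_right _ _) hm'))
    · exact ⟨0, fun m' _ => by rw [zero_mul]; exact Subring.zero_mem _⟩
    · intro n hn
      by_cases hn0 : 0 ≤ n
      · refine ⟨0, fun m' _ => ?_⟩
        refine Subring.mul_mem _ ?_ (Subring.pow_mem _ (RingHom.mem_range.mpr ⟨_, rfl⟩) _)
        exact RingHom.mem_range.mpr
          ⟨rmono 𝓕 n.toNat ((x : A[T;T⁻¹]).coeff n) (coeff_mem 𝓕 x n),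
            reesToExt_rmono 𝓕 n.toNat n (Int.toNat_of_nonneg hn0).symm _ _ _⟩
      · refine ⟨(-n).toNat, fun m' hm' => ?_⟩
        have hc0 : (x : A[T;T⁻¹]).coeff n ∈ 𝓕.F (0 : ℤ).toNat := mem_F_zero 𝓕 _
        have h1 : mono 𝓕 n ((x : A[T;T⁻¹]).coeff n) (coeff_mem 𝓕 x n) =
            𝓕.u ^ (-n).toNat * algebraMap A 𝓕.extRees ((x : A[T;T⁻¹]).coeff n) := by
          rw [algebraMap_eq_mono]
          exact (u_pow_mul_mono 𝓕 (-n).toNat n 0
            (by rw [Int.toNat_of_nonneg (by omega)]; ring) _ hc0 _).symm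
        obtain ⟨d, rfl⟩ := Nat.exists_eq_add_of_le hm'
        have h2 : mono 𝓕 n ((x : A[T;T⁻¹]).coeff n) (coeff_mem 𝓕 x n) * f ^ ((-n).toNat + d) =
            algebraMap A 𝓕.extRees ((x : A[T;T⁻¹]).coeff n) * (𝓕.u * f) ^ (-n).toNat * f ^ d := by
          rw [h1, mul_pow, pow_add]; ring
        rw [h2, hug, ← reesToExt_algebraMap]
        exact Subring.mul_mem _ (Subring.mul_mem _ (RingHom.mem_range.mpr ⟨_, rfl⟩)
          (Subring.pow_mem _ (RingHom.mem_range.mpr ⟨_, rfl⟩) _))
          (Subring.pow_mem _ (RingHom.mem_range.mpr ⟨_, rfl⟩) _)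
  obtain ⟨m, hm⟩ := key x
  obtain ⟨r, hr⟩ := RingHom.mem_range.mp (hm m le_rfl)
  exact ⟨m, r, hr.symm⟩

end Rees

section Away

theorem nonempty_atPrime_equiv_of_eq {R : Type u} [CommRing R] (p q : Ideal R) [p.IsPrime]
    [q.IsPrime] (h : p = q) : Nonempty (Localization.AtPrime p ≃+* Localization.AtPrime q) := by
  subst h
  exact ⟨RingEquiv.refl _⟩

/-- if `R → R'` becomes an isomorphism after inverting `f`, the local rings of `R` at primes not
containing `f` are local rings of `R'` -/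
theorem exists_atPrime_equiv_of_away {R R' : Type u} [CommRing R] [CommRing R'] (φ : R →+* R')
    (f : R) (hinj : Function.Injective φ)
    (hsurj : ∀ x : R', ∃ (m : ℕ) (r : R), x * φ f ^ m = φ r)
    (P : Ideal R) [hP : P.IsPrime] (hf : f ∉ P) :
    ∃ (P' : Ideal R') (_ : P'.IsPrime),
      Nonempty (Localization.AtPrime P ≃+* Localization.AtPrime P') := by
  letI : Algebra R R' := φ.toAlgebra
  have hamap : ∀ r : R, algebraMap R (Localization.Away (φ f)) r =
      algebraMap R' (Localization.Away (φ f)) (φ r) := fun r =>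
    IsScalarTower.algebraMap_apply R R' (Localization.Away (φ f)) r
  haveI hloc : IsLocalization (Submonoid.powers f) (Localization.Away (φ f)) := by
    rw [isLocalization_iff]
    refine ⟨?_, ?_, ?_⟩
    · rintro ⟨y, k, rfl⟩
      change IsUnit (algebraMap R (Localization.Away (φ f)) (f ^ k))
      rw [hamap, map_pow, map_pow]
      exact (IsLocalization.Away.algebraMap_isUnit (φ f)).pow k
    · intro z
      obtain ⟨⟨x, s⟩, hxs⟩ := IsLocalization.surj (Submonoid.powers (φ f)) z
      obtain ⟨k, hk⟩ := s.2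
      obtain ⟨m, r, hmr⟩ := hsurj x
      refine ⟨(r, ⟨f ^ (k + m), ⟨k + m, rfl⟩⟩), ?_⟩
      change z * algebraMap R (Localization.Away (φ f)) (f ^ (k + m)) =
        algebraMap R (Localization.Away (φ f)) r
      rw [hamap, hamap, ← hmr, map_pow, pow_add, map_mul, map_mul, ← mul_assoc]
      congr 1
      have : (s : R') = φ f ^ k := hk.symm
      rw [← this]
      exact hxs
    · intro x y hxy
      rw [hamap, hamap] at hxy
      obtain ⟨⟨c, k, hk⟩, hc⟩ := IsLocalization.exists_of_eq (M := Submonoid.powers (φ f)) hxy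
      refine ⟨⟨f ^ k, ⟨k, rfl⟩⟩, ?_⟩
      apply hinj
      change φ (f ^ k * x) = φ (f ^ k * y)
      rw [map_mul, map_mul, map_pow]
      have : c = φ f ^ k := hk.symm
      rw [← this]
      exact hc
  have hdisj : Disjoint (Submonoid.powers f : Set R) (P : Set R) :=
    (Ideal.disjoint_powers_iff_notMem_of_isPrime f).mpr hf
  set Q := P.map (algebraMap R (Localization.Away (φ f))) with hQ
  haveI hQp : Q.IsPrime :=
    IsLocalization.isPrime_of_isPrime_disjoint (Submonoid.powers f) _ P hP hdisj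
  have hcomap : Q.comap (algebraMap R (Localization.Away (φ f))) = P :=
    IsLocalization.under_map_of_isPrime_disjoint (Submonoid.powers f) _ hP hdisj
  haveI hP' : (Q.comap (algebraMap R' (Localization.Away (φ f)))).IsPrime :=
    Ideal.comap_isPrime _ _
  haveI : (Q.comap (algebraMap R (Localization.Away (φ f)))).IsPrime := Ideal.comap_isPrime _ _
  refine ⟨Q.comap (algebraMap R' (Localization.Away (φ f))), hP', ?_⟩
  haveI i1 : IsLocalization.AtPrime (Localization.AtPrime Q)
      (Q.comap (algebraMap R (Localization.Away (φ f)))) :=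
    IsLocalization.isLocalization_isLocalization_atPrime_isLocalization (Submonoid.powers f) _ Q
  haveI i2 : IsLocalization.AtPrime (Localization.AtPrime Q)
      (Q.comap (algebraMap R' (Localization.Away (φ f)))) :=
    IsLocalization.isLocalization_isLocalization_atPrime_isLocalization
      (Submonoid.powers (φ f)) _ Q
  obtain ⟨e0⟩ := nonempty_atPrime_equiv_of_eq P
    (Q.comap (algebraMap R (Localization.Away (φ f)))) hcomap.symm
  let e1 : Localization.AtPrime (Q.comap (algebraMap R (Localization.Away (φ f)))) ≃+*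
      Localization.AtPrime Q :=
    (IsLocalization.algEquiv (Q.comap (algebraMap R (Localization.Away (φ f)))).primeCompl
      _ _).toRingEquiv
  let e2 : Localization.AtPrime (Q.comap (algebraMap R' (Localization.Away (φ f)))) ≃+*
      Localization.AtPrime Q :=
    (IsLocalization.algEquiv (Q.comap (algebraMap R' (Localization.Away (φ f)))).primeCompl
      _ _).toRingEquiv
  exact ⟨e0.trans (e1.trans e2.symm)⟩

end Away

section SkTransfer

/-- transfer of the `(S_k)` inequality along an isomorphism of local rings -/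
theorem skAt_of_atPrime_equiv {R R' : Type u} [CommRing R] [CommRing R'] (k : ℕ)
    (P : Ideal R) [P.IsPrime] (P' : Ideal R') [P'.IsPrime]
    (e : Localization.AtPrime P ≃+* Localization.AtPrime P') (h : SkAt R' k P') :
    SkAt R k P := by
  have h1 : depth (Localization.AtPrime P) (Localization.AtPrime P) =
      depth (Localization.AtPrime P') (Localization.AtPrime P') :=
    Groth.Agent.Helper8.Serre.depth_self_eq_of_ringEquiv e.symm
  have h2 : P.height = P'.height := by
    have h3 := ringKrullDim_eq_of_ringEquiv e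
    rw [IsLocalization.AtPrime.ringKrullDim_eq_height P,
      IsLocalization.AtPrime.ringKrullDim_eq_height P'] at h3
    exact WithBot.coe_eq_coe.mp h3
  exact (skAt_of_eq k P P' h1 h2).mpr h

variable {𝓕}

/-- Case 1: primes of the Rees algebra not containing the irrelevant ideal -/
theorem skAt_rees_of_notMem (n : ℕ)
    (h : ∀ (Q : Ideal 𝓕.extRees) [Q.IsPrime], SkAt 𝓕.extRees n Q)
    (P : Ideal 𝓕.rees) [P.IsPrime] (k : ℕ) (b : A) (hb : b ∈ 𝓕.F (k + 1))
    (hP : rmono 𝓕 (k + 1) b hb ∉ P) : SkAt 𝓕.rees n P := by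
  obtain ⟨P', hP', ⟨e⟩⟩ := exists_atPrime_equiv_of_away (reesToExt 𝓕) (rmono 𝓕 (k + 1) b hb)
    (reesToExt_injective 𝓕) (exists_mul_pow_mem_range 𝓕 k b hb) P hP
  exact skAt_of_atPrime_equiv n P P' e (h P')

end SkTransfer

end Groth.Agent.Lib.Helper6.FiltBl
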