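import Mathlib
import Groth.Agent.Lib.Helper6.FiltBl.FBo
import Groth.Agent.Lib.Helper8.Refl4
import Groth.Agent.Lib.Helper8.Serre4
import Groth.Agent.Lib.Helper8.Depth2
import Groth.Agent.Lib.Helper8.Depth21

set_option autoImplicit false
set_option linter.unusedSectionVars false
set_option linter.unusedVariables false
set_option linter.unusedSimpArgs false
set_option linter.style.haveILetI false
set_option linter.overlappingInstances false
set_option maxHeartbeats 800000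

/-!
# `(S_2)` for the Rees algebra at primes containing the irrelevant ideal
-/

open Polynomial LaurentPolynomial DirectSum

universe u

noncomputable section

namespace Groth.Agent.Lib.Helper6.FiltBl

open LocCoh IsLocalRing Groth.Agent.Helper8.Depth RingTheory.Sequence Pointwise

variable {A : Type u} [CommRing A] [IsNoetherianRing A] (𝓕 : FiltBl.IdealFiltration A)
  (hfg : Algebra.FiniteType A 𝓕.rees)

theorem isSMulRegular_self_of_mul_eq_zero {R : Type*} [CommRing R] (a : R)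
    (h : ∀ x : R, a * x = 0 → x = 0) : IsSMulRegular R a := by
  intro x y hxy
  have hxy' : a * x = a * y := hxy
  have h1 : a * (x - y) = 0 := by rw [mul_sub, hxy', sub_self]
  exact sub_eq_zero.mp (h _ h1)

omit [IsNoetherianRing A] in
theorem algebraMap_isSMulRegular (a : A) (ha : IsSMulRegular A a) :
    IsSMulRegular 𝓕.extRees (algebraMap A 𝓕.extRees a) := by
  refine isSMulRegular_self_of_mul_eq_zero (R := 𝓕.extRees) _ fun x hx => ?_
  apply Subtype.ext
  ext n
  have h1 : a * (x : A[T;T⁻¹]).coeff n = 0 := by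
    have h2 := congrArg (fun y : 𝓕.extRees => (y : A[T;T⁻¹]).coeff n) hx
    beta_reduce at h2
    rw [algebraMap_eq_mono, coe_mul, coe_mono, AddMonoidAlgebra.coeff_single_zero_mul] at h2
    exact h2
  exact ha.right_eq_zero_of_smul h1

section Irrelevant

variable (P : Ideal 𝓕.rees) [hPp : P.IsPrime]
  (hirr : ∀ (k : ℕ) (b : A) (hb : b ∈ 𝓕.F (k + 1)), rmono 𝓕 (k + 1) b hb ∈ P)

omit [IsNoetherianRing A] hPp in
include hirr in
theorem algebraMap_coeff_zero_mem {r : 𝓕.rees} (hr : r ∈ P) :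
    algebraMap A 𝓕.rees ((r : A[X]).coeff 0) ∈ P := by
  classical
  by_cases h0 : 0 ∈ (r : A[X]).support
  · have h1 := Finset.add_sum_erase (r : A[X]).support
      (fun n => rmono 𝓕 n ((r : A[X]).coeff n) (r.2 n)) h0
    have h1' := h1.trans (rees_eq_sum 𝓕 r).symm
    have h2 : ∑ n ∈ (r : A[X]).support.erase 0, rmono 𝓕 n ((r : A[X]).coeff n) (r.2 n) ∈ P := by
      refine Ideal.sum_mem _ fun n hn => ?_
      obtain ⟨k, rfl⟩ := Nat.exists_eq_succ_of_ne_zero (Finset.ne_of_mem_erase hn)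
      exact hirr k _ _
    have h3 : rmono 𝓕 0 ((r : A[X]).coeff 0) (r.2 0) ∈ P := by
      rw [eq_sub_of_add_eq h1']
      exact Ideal.sub_mem _ hr h2
    rwa [rmono_zero] at h3
  · rw [Polynomial.notMem_support_iff.mp h0, map_zero]
    exact zero_mem _

include hfg hirr in
/-- Case 2a: the contraction to `A` is a minimal prime not containing `F 1` -/
theorem skAt_rees_of_minimal (hmin : P.comap (algebraMap A 𝓕.rees) ∈ minimalPrimes A)
    (a : A) (ha : a ∈ 𝓕.F 1) (haP : a ∉ P.comap (algebraMap A 𝓕.rees)) (n : ℕ) :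
    SkAt 𝓕.rees n P := by
  haveI : IsNoetherianRing 𝓕.rees := Algebra.FiniteType.isNoetherianRing A 𝓕.rees
  set f := rmono 𝓕 1 a ha with hf
  have hfP : f ∈ P := hirr 0 a ha
  have haP' : algebraMap A 𝓕.rees a ∉ P := haP
  have hminf : P ∈ (Ideal.span {f}).minimalPrimes := by
    refine ⟨⟨hPp, (Ideal.span_singleton_le_iff_mem _).mpr hfP⟩, ?_⟩
    rintro P₁ ⟨hP₁, hfP₁⟩ hle
    have hf₁ : f ∈ P₁ := (Ideal.span_singleton_le_iff_mem _).mp hfP₁
    haveI := hP₁
    have hcon : P₁.comap (algebraMap A 𝓕.rees) = P.comap (algebraMap A 𝓕.rees) := by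
      have h1 : P₁.comap (algebraMap A 𝓕.rees) ≤ P.comap (algebraMap A 𝓕.rees) :=
        Ideal.comap_mono hle
      exact le_antisymm h1 (hmin.2 ⟨Ideal.comap_isPrime _ _, bot_le⟩ h1)
    have ha₁ : algebraMap A 𝓕.rees a ∉ P₁ := fun h => haP' (hle h)
    intro r hr
    rw [rees_eq_sum 𝓕 r]
    refine Ideal.sum_mem _ fun m hm => ?_
    rcases Nat.eq_zero_or_pos m with rfl | hmpos
    · rw [rmono_zero]
      have h2 : (r : A[X]).coeff 0 ∈ P.comap (algebraMap A 𝓕.rees) :=
        algebraMap_coeff_zero_mem 𝓕 P hirr hr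
      rw [← hcon] at h2
      exact h2
    · have hid : algebraMap A 𝓕.rees a ^ m * rmono 𝓕 m ((r : A[X]).coeff m) (r.2 m) =
          algebraMap A 𝓕.rees ((r : A[X]).coeff m) * f ^ m := by
        apply Subtype.ext
        change Polynomial.C a ^ m * Polynomial.monomial m ((r : A[X]).coeff m) =
          Polynomial.C ((r : A[X]).coeff m) * Polynomial.monomial 1 a ^ m
        rw [← Polynomial.C_pow, Polynomial.C_mul_monomial, Polynomial.monomial_pow,
          Polynomial.C_mul_monomial, one_mul, mul_comm]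
      have h2 : algebraMap A 𝓕.rees a ^ m * rmono 𝓕 m ((r : A[X]).coeff m) (r.2 m) ∈ P₁ := by
        rw [hid]
        exact P₁.mul_mem_left _ (Ideal.pow_mem_of_mem _ hf₁ m hmpos)
      rcases hP₁.mem_or_mem h2 with h3 | h3
      · exact absurd (hP₁.mem_of_pow_mem m h3) ha₁
      · exact h3
  haveI : (Ideal.span {f}).IsPrincipal := ⟨⟨f, rfl⟩⟩
  have hht : P.height ≤ 1 :=
    Ideal.height_le_one_of_isPrincipal_of_mem_minimalPrimes (Ideal.span {f}) P hminf
  have hreg : IsSMulRegular (Localization.AtPrime P)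
      (algebraMap 𝓕.rees (Localization.AtPrime P) f) := by
    refine isSMulRegular_self_of_mul_eq_zero (R := Localization.AtPrime P) _ fun z hz => ?_
    obtain ⟨r, s, rfl⟩ := IsLocalization.exists_mk'_eq P.primeCompl z
    rw [IsLocalization.mul_mk'_eq_mk'_of_mul, IsLocalization.mk'_eq_zero_iff] at hz
    obtain ⟨t, ht⟩ := hz
    rw [IsLocalization.mk'_eq_zero_iff]
    refine ⟨⟨algebraMap A 𝓕.rees a * t, P.primeCompl.mul_mem haP' t.2⟩, ?_⟩
    apply Subtype.ext
    have h1 : ((t : 𝓕.rees) : A[X]) * (Polynomial.monomial 1 a * (r : A[X])) = 0 :=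
      congrArg Subtype.val ht
    change Polynomial.C a * ((t : 𝓕.rees) : A[X]) * (r : A[X]) = 0
    apply Polynomial.isRegular_X.left
    beta_reduce
    rw [mul_zero, ← h1, ← Polynomial.C_mul_X_eq_monomial]
    ring
  have hd : (1 : ℕ∞) ≤ depth (Localization.AtPrime P) (Localization.AtPrime P) := by
    have h1 := length_le_idealDepth (I := maximalIdeal (Localization.AtPrime P))
      (M := Localization.AtPrime P)
      (rs := [algebraMap 𝓕.rees (Localization.AtPrime P) f])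
      ((isWeaklyRegular_singleton_iff _ _).mpr hreg)
      (by
        intro x hx
        rw [List.mem_singleton] at hx
        subst hx
        exact (IsLocalization.AtPrime.to_map_mem_maximal_iff _ P f).mpr hfP)
    simpa [depth] using h1
  unfold SkAt
  exact le_trans (min_le_right _ _) (le_trans hht hd)

include hfg hirr in
/-- Case 2b: the contraction to `A` has positive height -/
theorem skAt_rees_of_height_pos [IsLocalRing A] (hsep : ⨅ n, 𝓕.F n = ⊥)
    (hA : HasSk 2 A A) (hE : HasSk 2 𝓕.extRees 𝓕.extRees) (hht : 2 ≤ (𝓕.F 1).height)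
    (h1 : 1 ≤ (P.comap (algebraMap A 𝓕.rees)).height) : SkAt 𝓕.rees 2 P := by
  haveI : IsNoetherianRing 𝓕.rees := Algebra.FiniteType.isNoetherianRing A 𝓕.rees
  haveI : IsNoetherianRing 𝓕.extRees := isNoetherianRing_extRees 𝓕 hfg
  set 𝔭 := P.comap (algebraMap A 𝓕.rees) with h𝔭
  haveI h𝔭p : 𝔭.IsPrime := Ideal.comap_isPrime _ _
  -- Step 1: a regular element of `A` in `𝔭`
  have hA1 : HasSk 1 A A := Groth.Agent.Helper8.Serre.hasSk_self_mono A (by norm_num) hA
  have hd1 : ((1 : ℕ) : ℕ∞) ≤ idealDepth 𝔭 A := by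
    refine le_idealDepth_of_hasSk A 1 𝔭 hA1 (fun p hp _ => ?_)
    rw [supportDim_localizedModule_self]
    have h2 : 𝔭.height ≤ p.asIdeal.height := Ideal.height_mono hp
    have h3 : (1 : ℕ∞) ≤ p.asIdeal.height := le_trans h1 h2
    have h4 : ((1 : ℕ∞) : WithBot ℕ∞) ≤ (p.asIdeal.height : WithBot ℕ∞) :=
      WithBot.coe_le_coe.mpr h3
    exact h4
  have h𝔭top : 𝔭 • (⊤ : Submodule A A) ≠ ⊤ := by
    have : 𝔭 • (⊤ : Submodule A A) = 𝔭 := Ideal.mul_top 𝔭
    rw [this]
    exact h𝔭p.ne_top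
  obtain ⟨rs, hlen, hrs, hmem⟩ := (le_idealDepth_iff h𝔭top 1).mp hd1
  obtain ⟨a₀, rfl⟩ := List.length_eq_one_iff.mp hlen
  have ha₀reg : IsSMulRegular A a₀ := (isWeaklyRegular_singleton_iff A a₀).mp hrs
  have ha₀𝔭 : a₀ ∈ 𝔭 := hmem a₀ (List.mem_singleton.mpr rfl)
  -- Step 2: the extension of `P` has height at least two
  set J := P.map (reesToExt 𝓕) with hJ
  have hJle : ∀ Q : Ideal 𝓕.extRees, Q.IsPrime → J ≤ Q → (2 : ℕ∞) ≤ Q.height := by
    intro Q hQ hJQ
    haveI := hQ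
    set 𝔮 := Q.comap (algebraMap A 𝓕.extRees) with h𝔮
    haveI : 𝔮.IsPrime := Ideal.comap_isPrime _ _
    have hPQ : ∀ r ∈ P, reesToExt 𝓕 r ∈ Q := fun r hr => hJQ (Ideal.mem_map_of_mem _ hr)
    have h𝔭𝔮 : 𝔭 ≤ 𝔮 := by
      intro c hc
      change algebraMap A 𝓕.extRees c ∈ Q
      rw [← reesToExt_algebraMap]
      exact hPQ _ hc
    have hqQ : qext 𝓕 𝔮 ≤ Q := by
      intro x hx
      rw [eq_sum_mono 𝓕 x]
      refine Ideal.sum_mem _ fun m hm => ?_
      have hc : (x : A[T;T⁻¹]).coeff m ∈ 𝔮 := (mem_qext 𝓕).mp hx m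
      by_cases hm0 : 0 < m
      · obtain ⟨k, hk⟩ : ∃ k : ℕ, m = (k : ℤ) + 1 := ⟨(m - 1).toNat, by omega⟩
        have hb : (x : A[T;T⁻¹]).coeff m ∈ 𝓕.F (k + 1) := by
          have h5 := coeff_mem 𝓕 x m
          rwa [show m.toNat = k + 1 by omega] at h5
        rw [← reesToExt_rmono 𝓕 (k + 1) m (by rw [hk]; push_cast; ring) _ hb]
        exact hPQ _ (hirr k _ hb)
      · have hc0 := mem_F_zero 𝓕 ((x : A[T;T⁻¹]).coeff m)
        have h5 : mono 𝓕 m ((x : A[T;T⁻¹]).coeff m) (coeff_mem 𝓕 x m) =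
            𝓕.u ^ (-m).toNat * algebraMap A 𝓕.extRees ((x : A[T;T⁻¹]).coeff m) := by
          rw [algebraMap_eq_mono]
          exact (u_pow_mul_mono 𝓕 (-m).toNat m 0
            (by rw [Int.toNat_of_nonneg (by omega)]; ring) _ hc0 _).symm
        rw [h5]
        exact Q.mul_mem_left _ hc
    have hht𝔮 : (2 : ℕ∞) ≤ 𝔮.height := by
      by_cases hF : 𝓕.F 1 ≤ 𝔭
      · exact le_trans hht (Ideal.height_mono (hF.trans h𝔭𝔮))
      · obtain ⟨a, haF, ha𝔭⟩ := SetLike.not_le_iff_exists.mp hF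
        have ha𝔮 : a ∈ 𝔮 := by
          change algebraMap A 𝓕.extRees a ∈ Q
          have h0 := u_mul_reesToExt_rmono 𝓕 0 a haF
          rw [rmono_zero, reesToExt_algebraMap] at h0
          rw [← h0]
          exact Q.mul_mem_left _ (hPQ _ (hirr 0 a haF))
        have hlt : 𝔭 < 𝔮 := lt_of_le_of_ne h𝔭𝔮 (fun h => ha𝔭 (h ▸ ha𝔮))
        have h6 := Ideal.height_add_one_le_of_lt_of_isPrime hlt
        calc (2 : ℕ∞) = 1 + 1 := by norm_num
          _ ≤ 𝔭.height + 1 := add_le_add_left h1 1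
          _ ≤ 𝔮.height := h6
    obtain ⟨-, hh⟩ := depth_height_qext 𝓕 hfg (qext 𝓕 𝔮) 𝔮 rfl
    calc (2 : ℕ∞) ≤ 𝔮.height := hht𝔮
      _ = (qext 𝓕 𝔮).height := hh.symm
      _ ≤ Q.height := Ideal.height_mono hqQ
  have hJht : (2 : ℕ∞) ≤ J.height := by
    rw [Ideal.height_eq_inf_minimalPrimes]
    exact le_iInf₂ fun Q hQ => hJle Q hQ.1.1 hQ.1.2
  -- Step 3
  set a' := algebraMap A 𝓕.extRees a₀ with ha'
  have ha₀J : a' ∈ J := by
    rw [ha', ← reesToExt_algebraMap]
    exact Ideal.mem_map_of_mem _ ha₀𝔭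
  have ha₀regE : IsSMulRegular 𝓕.extRees a' := algebraMap_isSMulRegular 𝓕 a₀ ha₀reg
  have hJne : J ≠ ⊤ := by
    have hJm : J ≤ qext 𝓕 (maximalIdeal A) := by
      rw [hJ, Ideal.map_le_iff_le_comap]
      intro r hr
      rw [Ideal.mem_comap, mem_qext]
      intro n
      rw [coeff_reesToExt]
      split_ifs with hn
      · rcases Nat.eq_zero_or_pos n.toNat with h0 | hpos
        · rw [h0]
          have h7 : (r : A[X]).coeff 0 ∈ 𝔭 := algebraMap_coeff_zero_mem 𝓕 P hirr hr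
          exact IsLocalRing.le_maximalIdeal h𝔭p.ne_top h7
        · exact F1_le_maximalIdeal 𝓕 hsep (𝓕.antitone hpos (r.2 n.toNat))
      · exact zero_mem _
    intro htop
    rw [htop] at hJm
    exact (qext_isPrime 𝓕 (maximalIdeal A)).ne_top (top_le_iff.mp hJm)
  have hJtop : J • (⊤ : Submodule 𝓕.extRees 𝓕.extRees) ≠ ⊤ := by
    have : J • (⊤ : Submodule 𝓕.extRees 𝓕.extRees) = J := Ideal.mul_top J
    rw [this]
    exact hJne
  -- Step 4
  have h2 : (2 : ℕ∞) ≤ idealDepth J 𝓕.extRees :=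
    Groth.Agent.Helper8.Refl.two_le_idealDepth_self hE J hJht
  have h3 := idealDepth_quotSMulTop_add_one hJtop ha₀J ha₀regE
  have h4 : ((1 : ℕ) : ℕ∞) ≤ idealDepth J (QuotSMulTop a' 𝓕.extRees) := by
    rw [← h3] at h2
    have h5 : (1 : ℕ∞) + 1 ≤ idealDepth J (QuotSMulTop a' 𝓕.extRees) + 1 := by
      rw [one_add_one_eq_two]; exact h2
    exact_mod_cast (ENat.add_le_add_iff_right ENat.one_ne_top).mp h5
  have hJtop' := smul_top_quotSMulTop_ne_top ha₀J hJtop
  obtain ⟨zs, hzlen, hzreg, hzmem⟩ := (le_idealDepth_iff hJtop' 1).mp h4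
  obtain ⟨z, rfl⟩ := List.length_eq_one_iff.mp hzlen
  have hzJ : z ∈ J := hzmem z (List.mem_singleton.mpr rfl)
  have hzr : IsSMulRegular (QuotSMulTop a' 𝓕.extRees) z :=
    (isWeaklyRegular_singleton_iff _ z).mp hzreg
  have hy : ∃ y ∈ P, IsSMulRegular (QuotSMulTop a' 𝓕.extRees) (reesToExt 𝓕 y) := by
    by_contra hcon
    push Not at hcon
    have hfin : (associatedPrimes 𝓕.extRees (QuotSMulTop a' 𝓕.extRees)).Finite :=
      associatedPrimes.finite 𝓕.extRees (QuotSMulTop a' 𝓕.extRees)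
    have hsub : (P : Set 𝓕.rees) ⊆ ⋃ Q ∈ (↑hfin.toFinset : Set (Ideal 𝓕.extRees)),
        ((Q.comap (reesToExt 𝓕) : Ideal 𝓕.rees) : Set 𝓕.rees) := by
      intro y hy
      have h5 : reesToExt 𝓕 y ∈ ⋃ p ∈ associatedPrimes 𝓕.extRees (QuotSMulTop a' 𝓕.extRees),
          (p : Set 𝓕.extRees) := by
        rw [biUnion_associatedPrimes_eq_compl_regular]
        exact hcon y hy
      obtain ⟨Q, hQ, hyQ⟩ := Set.mem_iUnion₂.mp h5
      exact Set.mem_iUnion₂.mpr ⟨Q, Finset.mem_coe.mpr (hfin.mem_toFinset.mpr hQ), hyQ⟩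
    obtain ⟨Q, hQ, hPQ⟩ := (Ideal.subset_union_prime (s := hfin.toFinset)
      (f := fun Q : Ideal 𝓕.extRees => Q.comap (reesToExt 𝓕)) ⊥ ⊥
      (fun Q hQ _ _ => by
        haveI : Q.IsPrime := (hfin.mem_toFinset.mp hQ).isPrime
        exact Ideal.comap_isPrime _ _)).mp hsub
    have hQass := hfin.mem_toFinset.mp hQ
    have hJQ : J ≤ Q := Ideal.map_le_iff_le_comap.mpr hPQ
    have h6 : z ∈ ⋃ p ∈ associatedPrimes 𝓕.extRees (QuotSMulTop a' 𝓕.extRees), (p : Set 𝓕.extRees) :=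
      Set.mem_iUnion₂.mpr ⟨Q, hQass, hJQ hzJ⟩
    rw [biUnion_associatedPrimes_eq_compl_regular] at h6
    exact h6 hzr
  obtain ⟨y, hyP, hyreg⟩ := hy
  -- Step 5
  have hreg1 : IsSMulRegular 𝓕.rees (algebraMap A 𝓕.rees a₀) := by
    refine isSMulRegular_self_of_mul_eq_zero (R := 𝓕.rees) _ fun r hr => ?_
    apply reesToExt_injective 𝓕
    rw [map_zero]
    apply ha₀regE.right_eq_zero_of_smul
    rw [smul_eq_mul, ha', ← reesToExt_algebraMap, ← map_mul, hr, map_zero]
  have hreg2 : IsSMulRegular (QuotSMulTop (algebraMap A 𝓕.rees a₀) 𝓕.rees) y := by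
    refine (isSMulRegular_quotient_iff_mem_of_smul_mem _ _).mpr fun r hr => ?_
    obtain ⟨s, -, hs⟩ := (Submodule.mem_smul_pointwise_iff_exists _ _ _).mp hr
    have h5 : reesToExt 𝓕 y • reesToExt 𝓕 r ∈
        (a' • (⊤ : Submodule 𝓕.extRees 𝓕.extRees)) := by
      refine (Submodule.mem_smul_pointwise_iff_exists _ _ _).mpr ⟨reesToExt 𝓕 s, trivial, ?_⟩
      rw [smul_eq_mul, smul_eq_mul, ha', ← reesToExt_algebraMap, ← map_mul, ← map_mul]
      congr 1
    have h6 := (isSMulRegular_quotient_iff_mem_of_smul_mem _ _).mp hyreg _ h5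
    obtain ⟨r', -, hr'⟩ := (Submodule.mem_smul_pointwise_iff_exists _ _ _).mp h6
    have hr'range : r' ∈ (reesToExt 𝓕).range := by
      apply mem_range_reesToExt
      intro n hn
      have h7 := congrArg (fun w : 𝓕.extRees => (w : A[T;T⁻¹]).coeff n) hr'
      simp only [smul_eq_mul] at h7
      rw [ha', algebraMap_eq_mono, coe_mul, coe_mono, AddMonoidAlgebra.coeff_single_zero_mul,
        coeff_reesToExt, if_neg (by omega)] at h7
      exact ha₀reg.right_eq_zero_of_smul h7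
    obtain ⟨r'', rfl⟩ := RingHom.mem_range.mp hr'range
    refine (Submodule.mem_smul_pointwise_iff_exists _ _ _).mpr ⟨r'', trivial, ?_⟩
    apply reesToExt_injective 𝓕
    rw [smul_eq_mul, map_mul, reesToExt_algebraMap]
    exact hr'
  -- Step 6
  have hwr : IsWeaklyRegular 𝓕.rees [algebraMap A 𝓕.rees a₀, y] :=
    (isWeaklyRegular_cons_iff _ _ _).mpr ⟨hreg1, (isWeaklyRegular_singleton_iff _ _).mpr hreg2⟩
  have hwr' : IsWeaklyRegular (Localization.AtPrime P)
      ([algebraMap A 𝓕.rees a₀, y].map (algebraMap 𝓕.rees (Localization.AtPrime P))) :=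
    IsWeaklyRegular.of_isLocalization (Localization.AtPrime P) P.primeCompl hwr
  have hd : ((2 : ℕ) : ℕ∞) ≤ depth (Localization.AtPrime P) (Localization.AtPrime P) := by
    have h8 := length_le_idealDepth (I := maximalIdeal (Localization.AtPrime P)) hwr' (by
      intro x hx
      simp only [List.map_cons, List.map_nil, List.mem_cons, List.not_mem_nil, or_false] at hx
      rcases hx with rfl | rfl
      · exact (IsLocalization.AtPrime.to_map_mem_maximal_iff _ P _).mpr ha₀𝔭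
      · exact (IsLocalization.AtPrime.to_map_mem_maximal_iff _ P _).mpr hyP)
    simpa [depth] using h8
  unfold SkAt
  exact le_trans (min_le_left _ _) hd

end Irrelevant

end Groth.Agent.Lib.Helper6.FiltBl
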